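import Mathlib
import Groth.Agent.Lib.Helper62.DSCartier
import Groth.Agent.Lib.Helper84.Obs.Char

/-!
# The universal point of a diagonalisable group is an isomorphism of group schemes (helper84)

`uPt k M : sp k k[M] ⟶ D_{Spec k}(M)` (helper62) is a homomorphism and an isomorphism; a split
torus `σ` with character group `M` over `Spec k` has a group isomorphism `sp k k[M] ≅ σ`.
-/

set_option autoImplicit false
set_option linter.unusedSectionVars false
universe u
open CategoryTheory MonoidalCategory CartesianMonoidalCategory MonObj GrpObj AlgebraicGeometry Opposite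
open CoactBr Limits TensorProduct

namespace Groth.Agent.Lib.Helper84.MuN

open Groth.Agent.Lib.Helper43 Groth.Agent.Lib.Helper62.DSCartier Groth.Agent.Lib.Helper84.Obs

section General

variable {C : Type*} [Category C] [CartesianMonoidalCategory C]

/-- a morphism of group objects compatible with the product of the universal pair of points is a
homomorphism. -/
theorem isMonHom_of_mul {G H : C} [GrpObj G] [GrpObj H] (c : G ⟶ H)
    (hmul : (fst G G * snd G G) ≫ c = (fst G G ≫ c) * (snd G G ≫ c)) : IsMonHom c := by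
  have hmul' : ∀ {X : C} (a b : X ⟶ G), (a * b) ≫ c = (a ≫ c) * (b ≫ c) := by
    intro X a b
    have h1 : a * b = lift a b ≫ (fst G G * snd G G) := by
      rw [MonObj.comp_mul, lift_fst, lift_snd]
    rw [h1, Category.assoc, hmul, MonObj.comp_mul, ← Category.assoc, ← Category.assoc, lift_fst,
      lift_snd]
  refine ⟨?_, ?_⟩
  · have h1 : (η : 𝟙_ C ⟶ G) = 1 := by
      rw [Hom.one_def]; simp
    have h2 : (η : 𝟙_ C ⟶ H) = 1 := by
      rw [Hom.one_def]; simp
    rw [h1, h2]
    have h3 := hmul' (1 : 𝟙_ C ⟶ G) 1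
    rw [_root_.mul_one] at h3
    have h4 : ((1 : 𝟙_ C ⟶ G) ≫ c)⁻¹ * ((1 : 𝟙_ C ⟶ G) ≫ c)
        = ((1 : 𝟙_ C ⟶ G) ≫ c)⁻¹ * (((1 : 𝟙_ C ⟶ G) ≫ c) * ((1 : 𝟙_ C ⟶ G) ≫ c)) :=
      congrArg _ h3
    rw [inv_mul_cancel_left, inv_mul_cancel] at h4
    exact h4.symm
  · have h : (μ : H ⊗ H ⟶ H) = fst _ _ * snd _ _ := by
      rw [Hom.mul_def]; simp
    have h' : (μ : G ⊗ G ⟶ G) = fst _ _ * snd _ _ := by
      rw [Hom.mul_def]; simp
    rw [h, h', hmul, MonObj.comp_mul]
    simp only [tensorHom_fst, tensorHom_snd]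

end General

section UPt

variable (k : Type u) [CommRing k] (M : Type) [AddCommGroup M]

theorem chr_uPt_eq_fnOf (m : Multiplicative M) :
    chr (uPt k M) m = Obs.fnOf (Iso.refl (sp k (kM k M))) (MonoidAlgebra.single m (1 : k)) := by
  rw [chr_uPt]
  unfold Obs.fnOf gInv
  simp
  rfl

instance isMonHom_uPt : IsMonHom (uPt k M) := by
  refine @isMonHom_of_mul _ _ _ (Red.diag k M) (Red.DS (Sk k) M) inferInstance inferInstance
    (uPt k M) ?_
  apply chr_injective
  intro m
  rw [chr_comp, chr_mul_pt, chr_comp, chr_comp, chr_uPt_eq_fnOf]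
  have : IsMonHom (Iso.refl (sp k (kM k M))).hom := by
    dsimp only [Iso.refl_hom]; infer_instance
  exact mul_appTop_of_groupLike (Iso.refl (sp k (kM k M))) (MonoidAlgebra.single m (1 : k))
    (MonoidAlgebra.isGroupLikeElem_single_one m)

theorem uPt_cancel {X : Over (Sk k)} (x y : X ⟶ Red.diag k M) (h : x ≫ uPt k M = y ≫ uPt k M) :
    x = y := by
  apply Over.OverMorphism.ext
  apply ext_of_ptFnHom
  apply MonoidAlgebra.ringHom_ext'
  · ext a
    have hx := Over.w x
    have hy := Over.w y
    simp only [RingHom.coe_comp, Function.comp_apply, ptFnHom_apply]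
    have e1 : ∀ z : X ⟶ Red.diag k M, ptFn z.left (MonoidAlgebra.singleOneRingHom a)
        = ptFn X.hom a := by
      intro z
      have hz := Over.w z
      have : ptFn (z.left ≫ Spec.map (CommRingCat.ofHom (algebraMap k (kM k M)))) a
          = ptFn z.left (algebraMap k (kM k M) a) := ptFn_specMap _ _ _
      rw [← hz]
      exact this.symm
    rw [e1 x, e1 y]
  · ext m
    change ptFn x.left (MonoidAlgebra.single m (1 : k)) = ptFn y.left (MonoidAlgebra.single m (1 : k))
    have e2 : ∀ z : X ⟶ Red.diag k M, ptFn z.left (MonoidAlgebra.single m (1 : k))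
        = chr (z ≫ uPt k M) m := by
      intro z
      rw [chr_comp, chr_uPt]
      rfl
    rw [e2 x, e2 y, h]

instance isIso_uPt : IsIso (uPt k M) := by
  obtain ⟨x', hx', -⟩ := exists_factor (𝟙 (Red.DS (Sk k) M))
  refine ⟨x', ?_, hx'⟩
  apply uPt_cancel
  rw [Category.assoc, hx', Category.comp_id, Category.id_comp]

end UPt

section Split

variable {k : Type u} [CommRing k] {M : Type} [AddCommGroup M]

/-- the universal point of a split torus. -/
theorem exists_univ (σ : Over (Spec (CommRingCat.of k))) [GrpObj σ]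
    (h : Red.IsSplitTorusWith M σ) :
    ∃ u : sp k (MonoidAlgebra k (Multiplicative M)) ≅ σ, IsMonHom u.hom := by
  obtain ⟨e⟩ := h
  have hb : IsMonHom e.inv.hom.hom := e.inv.hom.isMonHom_hom
  have h1 : e.hom.hom.hom ≫ e.inv.hom.hom = 𝟙 _ := congrArg (fun k => k.hom.hom) e.hom_inv_id
  have h2 : e.inv.hom.hom ≫ e.hom.hom.hom = 𝟙 _ := congrArg (fun k => k.hom.hom) e.inv_hom_id
  let ε : Red.DS (Sk k) M ≅ σ := ⟨e.inv.hom.hom, e.hom.hom.hom, h2, h1⟩
  refine ⟨asIso (uPt k M) ≪≫ ε, ?_⟩
  change IsMonHom (uPt k M ≫ e.inv.hom.hom)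
  infer_instance

/-- `sp k k[M]` is a split torus with character group `M`. -/
theorem isSplitTorusWith_sp : Red.IsSplitTorusWith M (sp k (MonoidAlgebra k (Multiplicative M))) := by
  have : IsMonHom (asIso (uPt k M)).hom := by
    change IsMonHom (uPt k M); infer_instance
  exact ⟨Grp.mkIso' (asIso (uPt k M))⟩

end Split

end Groth.Agent.Lib.Helper84.MuN
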