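import Mathlib
import Groth.Prelude.Def_CoactBr
import Groth.Prelude.Def_AGF
import Groth.Agent.Lib.Helper43.DSMap
import Groth.Agent.Lib.Helper84.AffGrpSch.Basic

/-!
# Points of the base change of a `k`-scheme to `K` with values in `K`-algebras (helper84)

For `k → K`, `X` over `Spec k` and a `K`-algebra `B`: `Psi : (sp K B ⟶ X_K) → (sp k B ⟶ X)`,
bijective, natural in `X` and `B`, and multiplicative.
-/

set_option autoImplicit false
set_option linter.unusedSectionVars false
universe u
open CategoryTheory MonoidalCategory CartesianMonoidalCategory MonObj GrpObj AlgebraicGeometry Opposite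
open CoactBr Limits TensorProduct

namespace Groth.Agent.Lib.Helper84.MuN

open Groth.Agent.Lib.Helper43

variable (k K : Type u) [CommRing k] [CommRing K] [Algebra k K]

/-- `Spec K ⟶ Spec k`. -/
noncomputable abbrev fkK : Spec (CommRingCat.of K) ⟶ Spec (CommRingCat.of k) :=
  Spec.map (CommRingCat.ofHom (algebraMap k K))

variable {k K}
variable (B B' : Type u) [CommRing B] [Algebra K B] [Algebra k B] [IsScalarTower k K B]
  [CommRing B'] [Algebra K B'] [Algebra k B'] [IsScalarTower k K B']

/-- `Spec B` over `Spec K` over `Spec k` is `Spec B` over `Spec k`. -/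
noncomputable def down : (Over.map (fkK k K)).obj (sp K B) ≅ sp k B :=
  Over.isoMk (Iso.refl _) (by
    change 𝟙 _ ≫ Spec.map (CommRingCat.ofHom (algebraMap k B))
      = Spec.map (CommRingCat.ofHom (algebraMap K B)) ≫ Spec.map (CommRingCat.ofHom (algebraMap k K))
    rw [Category.id_comp, ← Spec.map_comp, ← CommRingCat.ofHom_comp,
      IsScalarTower.algebraMap_eq k K B])

@[simp] theorem down_hom_left : (down (k := k) (K := K) B).hom.left = 𝟙 _ := rfl
@[simp] theorem down_inv_left : (down (k := k) (K := K) B).inv.left = 𝟙 _ := rfl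

variable {B B'}
variable {X X' : Over (Spec (CommRingCat.of k))}

/-- the `k`-morphism attached to a `B`-point of the base change. -/
noncomputable def Psi (y : sp K B ⟶ (Over.pullback (fkK k K)).obj X) : sp k B ⟶ X :=
  (down B).inv ≫ bcPt (fkK k K) y

theorem Psi_left (y : sp K B ⟶ (Over.pullback (fkK k K)).obj X) :
    (Psi y).left = y.left ≫ pullback.fst _ _ := by
  unfold Psi
  rw [Over.comp_left, down_inv_left, bcPt_left]
  exact Category.id_comp _

theorem Psi_injective :
    Function.Injective (Psi : (sp K B ⟶ (Over.pullback (fkK k K)).obj X) → (sp k B ⟶ X)) := by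
  intro y y' h
  unfold Psi at h
  exact bcPt_injective _ ((cancel_epi _).1 h)

theorem Psi_surjective :
    Function.Surjective (Psi : (sp K B ⟶ (Over.pullback (fkK k K)).obj X) → (sp k B ⟶ X)) := by
  intro z
  obtain ⟨y, hy⟩ := bcPt_surjective (fkK k K) ((down B).hom ≫ z)
  refine ⟨y, ?_⟩
  unfold Psi
  rw [hy, Iso.inv_hom_id_assoc]

theorem Psi_map (y : sp K B ⟶ (Over.pullback (fkK k K)).obj X) (i : X ⟶ X') :
    Psi (y ≫ (Over.pullback (fkK k K)).map i) = Psi y ≫ i := by
  unfold Psi
  rw [bcPt_comp_map, Category.assoc]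

theorem Psi_pt (φ : B →ₐ[K] B') (y : sp K B ⟶ (Over.pullback (fkK k K)).obj X) :
    Psi (pt φ ≫ y) = pt (φ.restrictScalars k) ≫ Psi y := by
  apply Over.OverMorphism.ext
  rw [Psi_left, Over.comp_left, Over.comp_left, Psi_left, Category.assoc]
  rfl

section Grp

variable [GrpObj X]

theorem Psi_mul (y y' : sp K B ⟶ (Over.pullback (fkK k K)).obj X) :
    Psi (y * y') = Psi y * Psi y' := by
  unfold Psi
  rw [bcPt_mul, MonObj.comp_mul]

theorem Psi_one : Psi (1 : sp K B ⟶ (Over.pullback (fkK k K)).obj X) = 1 := by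
  have h := Psi_mul (1 : sp K B ⟶ (Over.pullback (fkK k K)).obj X) 1
  rw [_root_.mul_one] at h
  exact (mul_eq_left (a := Psi (1 : sp K B ⟶ (Over.pullback (fkK k K)).obj X))).1 h.symm

theorem Psi_inv (y : sp K B ⟶ (Over.pullback (fkK k K)).obj X) :
    Psi y⁻¹ = (Psi y)⁻¹ := by
  apply eq_inv_of_mul_eq_one_left
  rw [← Psi_mul, inv_mul_cancel, Psi_one]

end Grp

section Unit

variable (K)

/-- `Spec K` over itself is the unit object. -/
noncomputable def unitIso : sp K K ≅ 𝟙_ (Over (Spec (CommRingCat.of K))) :=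
  Over.isoMk (Iso.refl _) (by
    change 𝟙 _ ≫ 𝟙 _ = Spec.map (CommRingCat.ofHom (algebraMap K K))
    rw [Category.id_comp]
    exact (Spec.map_id _).symm)

variable {K}

theorem toUnit_eq (B : Type u) [CommRing B] [Algebra K B] :
    toUnit (sp K B) = pt (Algebra.ofId K B) ≫ (unitIso K).hom :=
  toUnit_unique _ _

/-- the `B`-point of the base change defined by a rational point `g`. -/
theorem Psi_toUnit_comp (g : 𝟙_ (Over (Spec (CommRingCat.of K))) ⟶ (Over.pullback (fkK k K)).obj X) :
    Psi (toUnit (sp K B) ≫ g)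
      = pt ((Algebra.ofId K B).restrictScalars k) ≫ Psi ((unitIso K).hom ≫ g) := by
  rw [toUnit_eq, Category.assoc, Psi_pt]

end Unit

end Groth.Agent.Lib.Helper84.MuN
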