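import Mathlib
import Groth.Agent.Lib.Helper84.Weitz.Corep

/-!
# Matrix corepresentations of a group algebra = complete systems of orthogonal idempotents
(helper84)
-/

set_option autoImplicit false
set_option linter.unusedSectionVars false
universe u v w
open TensorProduct

namespace Groth.Agent.Lib.Helper84.MuN

open Groth.Agent.Lib.Helper84.Weitz

variable {R : Type u} [CommRing R] {G : Type v} [CommGroup G] [Fintype G] [DecidableEq G]
  {ι : Type w} [Fintype ι] [DecidableEq ι]

/-- coefficient functional. -/
noncomputable def cf (R : Type u) [CommRing R] {G : Type v} (g : G) : MonoidAlgebra R G →ₗ[R] R :=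
  Finsupp.lapply g ∘ₗ (MonoidAlgebra.coeffLinearEquiv R).toLinearMap

omit [CommGroup G] [Fintype G] [DecidableEq G] in
@[simp] theorem cf_apply (g : G) (x : MonoidAlgebra R G) : cf R g x = x.coeff g := rfl

/-- coefficient functional on the tensor square. -/
noncomputable def cf2 (R : Type u) [CommRing R] {G : Type v} (g h : G) :
    MonoidAlgebra R G ⊗[R] MonoidAlgebra R G →ₗ[R] R :=
  LinearMap.mul' R R ∘ₗ TensorProduct.map (cf R g) (cf R h)

omit [CommGroup G] [Fintype G] [DecidableEq G] in
@[simp] theorem cf2_tmul (g h : G) (x y : MonoidAlgebra R G) :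
    cf2 R g h (x ⊗ₜ[R] y) = x.coeff g * y.coeff h := by
  simp [cf2]

omit [Fintype G] in
theorem cf2_comul (g h : G) (x : MonoidAlgebra R G) :
    cf2 R g h (Coalgebra.comul (R := R) x) = if g = h then x.coeff g else 0 := by
  induction x using MonoidAlgebra.induction_linear with
  | zero => simp
  | add x y hx hy =>
    rw [map_add, map_add, hx, hy]
    split_ifs <;> simp
  | single a r =>
    rw [MonoidAlgebra.comul_single]
    simp only [CommSemiring.comul_apply, map_tmul, MonoidAlgebra.lsingle_apply, cf2_tmul,
      MonoidAlgebra.coeff_single, Finsupp.single_apply]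
    by_cases h1 : g = h
    · subst h1
      by_cases h2 : a = g <;> simp [h2]
    · by_cases h2 : a = g
      · subst h2
        simp [h1]
      · simp [h2, h1]

omit [DecidableEq G] in
theorem counit_eq_sum (x : MonoidAlgebra R G) :
    Coalgebra.counit (R := R) x = ∑ g, x.coeff g := by
  classical
  induction x using MonoidAlgebra.induction_linear with
  | zero => simp
  | add x y hx hy =>
    rw [map_add, hx, hy, ← Finset.sum_add_distrib]
    rfl
  | single a r =>
    rw [MonoidAlgebra.counit_single]
    simp [MonoidAlgebra.coeff_single, Finsupp.single_apply]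

omit [DecidableEq G] in
theorem sum_single_coeff (x : MonoidAlgebra R G) :
    ∑ g, MonoidAlgebra.single g (x.coeff g) = x := by
  classical
  apply MonoidAlgebra.coeff_injective
  ext h
  rw [MonoidAlgebra.coeff_sum, Finsupp.finsetSum_apply]
  simp [MonoidAlgebra.coeff_single, Finsupp.single_apply]

/-- coefficient matrices. -/
def cm (N : Matrix ι ι (MonoidAlgebra R G)) (g : G) : Matrix ι ι R := fun i j => (N i j).coeff g

/-- the matrix over the group algebra with given coefficient matrices. -/
noncomputable def ofFam (E : G → Matrix ι ι R) : Matrix ι ι (MonoidAlgebra R G) :=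
  fun i j => ∑ g, MonoidAlgebra.single g (E g i j)

omit [DecidableEq G] [Fintype ι] [DecidableEq ι] in
theorem ofFam_cm (N : Matrix ι ι (MonoidAlgebra R G)) : ofFam (cm N) = N := by
  funext i j
  exact sum_single_coeff (N i j)

omit [Fintype ι] [DecidableEq ι] in
theorem cm_ofFam (E : G → Matrix ι ι R) (g : G) : cm (ofFam E) g = E g := by
  ext i j
  unfold cm ofFam
  rw [MonoidAlgebra.coeff_sum, Finsupp.finsetSum_apply]
  simp [MonoidAlgebra.coeff_single, Finsupp.single_apply]

omit [DecidableEq G] [Fintype ι] [DecidableEq ι] in
theorem ofFam_injective : Function.Injective (ofFam : (G → Matrix ι ι R) → _) := by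
  classical
  intro E F h
  funext g
  rw [← cm_ofFam E g, ← cm_ofFam F g, h]

/-- a corepresentation has a complete system of orthogonal idempotents as coefficients. -/
theorem IsCorep.coi {N : Matrix ι ι (MonoidAlgebra R G)} (hN : IsCorep R N) :
    CompleteOrthogonalIdempotents (cm N) := by
  have hmul : ∀ g h, cm N g * cm N h = if g = h then cm N g else 0 := by
    intro g h
    ext i j
    rw [Matrix.mul_apply]
    have h1 := congrArg (cf2 R g h) (hN.comul i j)
    rw [cf2_comul, map_sum] at h1
    simp only [cf2_tmul] at h1
    unfold cm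
    rw [← h1]
    split_ifs <;> rfl
  refine ⟨⟨fun g => ?_, fun g h hgh => ?_⟩, ?_⟩
  · unfold IsIdempotentElem
    rw [hmul, if_pos rfl]
  · change cm N g * cm N h = 0
    rw [hmul, if_neg hgh]
  · ext i j
    rw [Matrix.sum_apply]
    have := hN.counit i j
    rw [counit_eq_sum] at this
    rw [Matrix.one_apply]
    exact this

omit [CommGroup G] [Fintype G] [DecidableEq G] in
theorem single_tmul_single (g h : G) (r s : R) :
    MonoidAlgebra.single g r ⊗ₜ[R] MonoidAlgebra.single h s
      = (r * s) • (MonoidAlgebra.single g (1 : R) ⊗ₜ[R] MonoidAlgebra.single h (1 : R)) := by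
  have e1 : MonoidAlgebra.single g r = r • MonoidAlgebra.single g (1 : R) := by
    rw [MonoidAlgebra.smul_single, smul_eq_mul, mul_one]
  have e2 : MonoidAlgebra.single h s = s • MonoidAlgebra.single h (1 : R) := by
    rw [MonoidAlgebra.smul_single, smul_eq_mul, mul_one]
  rw [e1, e2, TensorProduct.smul_tmul_smul]

/-- a complete system of orthogonal idempotents defines a corepresentation. -/
theorem isCorep_ofFam {E : G → Matrix ι ι R} (hE : CompleteOrthogonalIdempotents E) :
    IsCorep R (ofFam E) := by
  have hmul := hE.toOrthogonalIdempotents.mul_eq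
  refine ⟨fun i j => ?_, fun i j => ?_⟩
  · unfold ofFam
    rw [map_sum]
    have e1 : ∀ g, Coalgebra.comul (R := R) (MonoidAlgebra.single g (E g i j))
        = (E g i j) • (MonoidAlgebra.single g (1 : R) ⊗ₜ[R] MonoidAlgebra.single g (1 : R)) := by
      intro g
      rw [MonoidAlgebra.comul_single]
      simp only [CommSemiring.comul_apply, map_tmul, MonoidAlgebra.lsingle_apply]
      rw [single_tmul_single, one_mul]
    have e2 : ∀ l, (∑ g, MonoidAlgebra.single g (E g i l)) ⊗ₜ[R] (∑ h, MonoidAlgebra.single h (E h l j))
        = ∑ g, ∑ h, (E g i l * E h l j) •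
          (MonoidAlgebra.single g (1 : R) ⊗ₜ[R] MonoidAlgebra.single h (1 : R)) := by
      intro l
      rw [TensorProduct.sum_tmul]
      refine Finset.sum_congr rfl fun g _ => ?_
      rw [TensorProduct.tmul_sum]
      refine Finset.sum_congr rfl fun h _ => ?_
      rw [single_tmul_single]
    simp_rw [e1, e2]
    rw [Finset.sum_comm]
    refine Finset.sum_congr rfl fun g _ => ?_
    rw [Finset.sum_comm]
    simp_rw [← Finset.sum_smul]
    have e3 : ∀ h, ∑ l, E g i l * E h l j = if g = h then E g i j else 0 := by
      intro h
      have := congrFun (congrFun (hmul g h) i) j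
      rw [Matrix.mul_apply] at this
      rw [this]
      split_ifs <;> rfl
    simp_rw [e3]
    rw [Finset.sum_eq_single g]
    · rw [if_pos rfl]
    · intro h _ hne
      rw [if_neg (Ne.symm hne), zero_smul]
    · intro h; exact absurd (Finset.mem_univ g) h
  · unfold ofFam
    rw [map_sum]
    simp only [MonoidAlgebra.counit_single, CommSemiring.counit_apply]
    have := congrFun (congrFun hE.complete i) j
    rw [Matrix.sum_apply, Matrix.one_apply] at this
    exact this

end Groth.Agent.Lib.Helper84.MuN
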