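import Mathlib

/-!
# Complete systems of orthogonal idempotent matrices over a field (helper84)

* `sum_rank_eq_card`: the ranks add up to the size.
* `exists_conj`: two systems with the same ranks are conjugate.
* `rank_map_field`: the rank of a square matrix is invariant under field extension.
* `diagFam c`: the diagonal system attached to `c : ι → G`, and `exists_fibre_card`.
-/

set_option autoImplicit false
set_option linter.unusedSectionVars false
universe u v w

namespace Groth.Agent.Lib.Helper84.MuN

open Module

section Glue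

variable {K : Type u} [Field K] {V : Type v} [AddCommGroup V] [Module K V]
  {G : Type w} [Fintype G] [DecidableEq G]

/-- glue linear maps between the ranges of two families of endomorphisms. -/
noncomputable def glue (e f : G → V →ₗ[K] V)
    (θ : ∀ a, LinearMap.range (e a) →ₗ[K] LinearMap.range (f a)) : V →ₗ[K] V :=
  ∑ a, (LinearMap.range (f a)).subtype ∘ₗ θ a ∘ₗ (e a).rangeRestrict

theorem glue_apply (e f : G → V →ₗ[K] V)
    (θ : ∀ a, LinearMap.range (e a) →ₗ[K] LinearMap.range (f a)) (v : V) :
    glue e f θ v = ∑ a, ((θ a ((e a).rangeRestrict v) : LinearMap.range (f a)) : V) := by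
  unfold glue
  rw [LinearMap.sum_apply]
  rfl

theorem f_glue (e f : G → V →ₗ[K] V)
    (hf : ∀ a b v, f a (f b v) = if a = b then f b v else 0)
    (θ : ∀ a, LinearMap.range (e a) →ₗ[K] LinearMap.range (f a)) (b : G) (v : V) :
    f b (glue e f θ v) = ((θ b ((e b).rangeRestrict v) : LinearMap.range (f b)) : V) := by
  rw [glue_apply, map_sum]
  rw [Finset.sum_eq_single b]
  · obtain ⟨w, hw⟩ := (θ b ((e b).rangeRestrict v)).2
    rw [← hw, hf, if_pos rfl]
  · intro a _ hab
    obtain ⟨w, hw⟩ := (θ a ((e a).rangeRestrict v)).2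
    rw [← hw, hf, if_neg (Ne.symm hab)]
  · intro h; exact absurd (Finset.mem_univ b) h

theorem glue_e (e f : G → V →ₗ[K] V)
    (he : ∀ a b v, e a (e b v) = if a = b then e b v else 0)
    (θ : ∀ a, LinearMap.range (e a) →ₗ[K] LinearMap.range (f a)) (b : G) (v : V) :
    glue e f θ (e b v) = ((θ b ((e b).rangeRestrict v) : LinearMap.range (f b)) : V) := by
  rw [glue_apply]
  rw [Finset.sum_eq_single b]
  · have : (e b).rangeRestrict (e b v) = (e b).rangeRestrict v := by
      apply Subtype.ext
      change e b (e b v) = e b v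
      rw [he, if_pos rfl]
    rw [this]
  · intro a _ hab
    have : (e a).rangeRestrict (e b v) = 0 := by
      apply Subtype.ext
      change e a (e b v) = 0
      rw [he, if_neg hab]
    rw [this, map_zero]
    rfl
  · intro h; exact absurd (Finset.mem_univ b) h

theorem glue_glue (e f : G → V →ₗ[K] V)
    (hf : ∀ a b v, f a (f b v) = if a = b then f b v else 0)
    (he1 : ∀ v, ∑ a, e a v = v)
    (θ : ∀ a, LinearMap.range (e a) →ₗ[K] LinearMap.range (f a))
    (θ' : ∀ a, LinearMap.range (f a) →ₗ[K] LinearMap.range (e a))
    (hθ : ∀ a x, θ' a (θ a x) = x) (v : V) :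
    glue f e θ' (glue e f θ v) = v := by
  rw [glue_apply]
  have h1 : ∀ a, (f a).rangeRestrict (glue e f θ v) = θ a ((e a).rangeRestrict v) := by
    intro a
    apply Subtype.ext
    exact f_glue e f hf θ a v
  conv_rhs => rw [← he1 v]
  refine Finset.sum_congr rfl fun a _ => ?_
  rw [h1, hθ]
  rfl

end Glue

section COI

variable {K : Type u} [Field K] {ι : Type v} [Fintype ι] [DecidableEq ι]
  {G : Type w} [Fintype G] [DecidableEq G]

theorem mulVecLin_ortho {R : Type*} [CommRing R] {E : G → Matrix ι ι R}
    (hE : CompleteOrthogonalIdempotents E)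
    (a b : G) (v : ι → R) :
    (E a).mulVecLin ((E b).mulVecLin v) = if a = b then (E b).mulVecLin v else 0 := by
  simp only [Matrix.mulVecLin_apply, Matrix.mulVec_mulVec]
  rw [hE.toOrthogonalIdempotents.mul_eq]
  split_ifs with h
  · rw [h]
  · rw [Matrix.zero_mulVec]

theorem mulVecLin_complete {R : Type*} [CommRing R] {E : G → Matrix ι ι R}
    (hE : CompleteOrthogonalIdempotents E)
    (v : ι → R) : ∑ a, (E a).mulVecLin v = v := by
  simp only [Matrix.mulVecLin_apply]
  rw [← Matrix.sum_mulVec, hE.complete, Matrix.one_mulVec]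

/-- the ranks of a complete system of orthogonal idempotents add up to the size. -/
theorem sum_rank_eq_card {E : G → Matrix ι ι K} (hE : CompleteOrthogonalIdempotents E) :
    ∑ a, (E a).rank = Fintype.card ι := by
  let Φ : (ι → K) ≃ₗ[K] (∀ a, LinearMap.range (E a).mulVecLin) :=
    { toFun := fun v a => (E a).mulVecLin.rangeRestrict v
      map_add' := fun v w => by ext a : 1; simp
      map_smul' := fun c v => by ext a : 1; simp
      invFun := fun w => ∑ a, ((w a : LinearMap.range (E a).mulVecLin) : ι → K)
      left_inv := fun v => by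
        change ∑ a, (E a).mulVecLin v = v
        exact mulVecLin_complete hE v
      right_inv := fun w => by
        ext b : 1
        apply Subtype.ext
        change (E b).mulVecLin (∑ a, ((w a : LinearMap.range (E a).mulVecLin) : ι → K)) = _
        rw [map_sum, Finset.sum_eq_single b]
        · obtain ⟨x, hx⟩ := (w b).2
          rw [← hx, mulVecLin_ortho hE, if_pos rfl]
        · intro a _ hab
          obtain ⟨x, hx⟩ := (w a).2
          rw [← hx, mulVecLin_ortho hE, if_neg (Ne.symm hab)]
        · intro h; exact absurd (Finset.mem_univ b) h }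
  have h := Φ.finrank_eq
  rw [Module.finrank_fintype_fun_eq_card] at h
  rw [h, Module.finrank_pi_fintype]
  rfl

/-- two complete systems of orthogonal idempotent matrices with the same ranks are conjugate. -/
theorem exists_conj {E F : G → Matrix ι ι K} (hE : CompleteOrthogonalIdempotents E)
    (hF : CompleteOrthogonalIdempotents F) (h : ∀ a, (E a).rank = (F a).rank) :
    ∃ P Q : Matrix ι ι K, P * Q = 1 ∧ Q * P = 1 ∧ ∀ a, P * E a = F a * P := by
  let e : G → (ι → K) →ₗ[K] (ι → K) := fun a => (E a).mulVecLin
  let f : G → (ι → K) →ₗ[K] (ι → K) := fun a => (F a).mulVecLin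
  have hfin : ∀ a, finrank K (LinearMap.range (e a)) = finrank K (LinearMap.range (f a)) := h
  let θ : ∀ a, LinearMap.range (e a) ≃ₗ[K] LinearMap.range (f a) :=
    fun a => LinearEquiv.ofFinrankEq _ _ (hfin a)
  let P := glue e f (fun a => (θ a).toLinearMap)
  let Q := glue f e (fun a => (θ a).symm.toLinearMap)
  have hee := mulVecLin_ortho hE
  have hff := mulVecLin_ortho hF
  have hQP : Q ∘ₗ P = LinearMap.id := by
    apply LinearMap.ext
    intro v
    exact glue_glue e f hff (mulVecLin_complete hE) _ _ (fun a x => (θ a).symm_apply_apply x) v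
  have hPQ : P ∘ₗ Q = LinearMap.id := by
    apply LinearMap.ext
    intro v
    exact glue_glue f e hee (mulVecLin_complete hF) _ _ (fun a x => (θ a).apply_symm_apply x) v
  have hPe : ∀ a, P ∘ₗ e a = f a ∘ₗ P := by
    intro a
    apply LinearMap.ext
    intro v
    change glue e f _ (e a v) = f a (glue e f _ v)
    rw [glue_e e f hee, f_glue e f hff]
  refine ⟨LinearMap.toMatrix' P, LinearMap.toMatrix' Q, ?_, ?_, ?_⟩
  · rw [← LinearMap.toMatrix'_comp, hPQ, LinearMap.toMatrix'_id]
  · rw [← LinearMap.toMatrix'_comp, hQP, LinearMap.toMatrix'_id]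
  · intro a
    have h1 : E a = LinearMap.toMatrix' (e a) := by
      change E a = LinearMap.toMatrix' (E a).mulVecLin
      rw [← Matrix.toLin'_apply', LinearMap.toMatrix'_toLin']
    have h2 : F a = LinearMap.toMatrix' (f a) := by
      change F a = LinearMap.toMatrix' (F a).mulVecLin
      rw [← Matrix.toLin'_apply', LinearMap.toMatrix'_toLin']
    rw [h1, h2, ← LinearMap.toMatrix'_comp, ← LinearMap.toMatrix'_comp, hPe]

end COI

section RankMap

variable {k : Type u} {K : Type v} [Field k] [Field K] [Algebra k K]
  {ι : Type w} [Fintype ι] [DecidableEq ι]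

/-- the rank of a square matrix does not change under extension of the base field. -/
theorem rank_map_field (M : Matrix ι ι k) : (M.map (algebraMap k K)).rank = M.rank := by
  classical
  obtain ⟨V, U, e, hV, hU, hVMU⟩ := Matrix.exists_rank_normal_form M
  have hV' : IsUnit (V.map (algebraMap k K)) := by
    have := hV.map (RingHom.mapMatrix (algebraMap k K) : Matrix ι ι k →+* Matrix ι ι K)
    exact this
  have hU' : IsUnit (U.map (algebraMap k K)) := by
    have := hU.map (RingHom.mapMatrix (algebraMap k K) : Matrix ι ι k →+* Matrix ι ι K)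
    exact this
  have h1 : V.map (algebraMap k K) * M.map (algebraMap k K) * U.map (algebraMap k K)
      = ((Matrix.fromBlocks (1 : Matrix (Fin M.rank) (Fin M.rank) K) 0 0
          (0 : Matrix (Fin (Fintype.card ι - M.rank)) (Fin (Fintype.card ι - M.rank)) K))).submatrix
            e e := by
    rw [← Matrix.map_mul, ← Matrix.map_mul, hVMU]
    ext i j
    simp only [Matrix.map_apply, Matrix.submatrix_apply]
    rcases e i with a | a <;> rcases e j with b | b <;>
      simp [Matrix.fromBlocks, Matrix.one_apply, apply_ite (algebraMap k K)]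
  have h2 : (V.map (algebraMap k K) * M.map (algebraMap k K) * U.map (algebraMap k K)).rank
      = (M.map (algebraMap k K)).rank := by
    rw [Matrix.rank_mul_eq_left_of_isUnit_det _ _ ((Matrix.isUnit_iff_isUnit_det _).1 hU'),
      Matrix.rank_mul_eq_right_of_isUnit_det _ _ ((Matrix.isUnit_iff_isUnit_det _).1 hV')]
  rw [← h2, h1, Matrix.rank_submatrix]
  rw [← Matrix.diagonal_one, ← Matrix.diagonal_zero, Matrix.fromBlocks_diagonal,
    Matrix.rank_diagonal]
  have : Fintype.card {i : Fin M.rank ⊕ Fin (Fintype.card ι - M.rank) //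
      Sum.elim (fun _ => (1 : K)) (fun _ => (0 : K)) i ≠ 0} = Fintype.card (Fin M.rank) := by
    apply Fintype.card_congr
    refine ⟨fun x => match x with
      | ⟨Sum.inl a, _⟩ => a
      | ⟨Sum.inr b, h⟩ => absurd rfl h, fun a => ⟨Sum.inl a, by simp⟩, ?_, ?_⟩
    · rintro ⟨a | b, h⟩
      · rfl
      · exact absurd rfl h
    · intro a; rfl
  rw [this, Fintype.card_fin]

end RankMap

section Diag

variable {R : Type u} [CommRing R] {ι : Type v} [Fintype ι] [DecidableEq ι]
  {G : Type w} [Fintype G] [DecidableEq G]

/-- the diagonal system of idempotents attached to `c : ι → G`. -/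
def diagFam (R : Type u) [CommRing R] (c : ι → G) (a : G) : Matrix ι ι R :=
  Matrix.diagonal fun p => if c p = a then 1 else 0

theorem diagFam_coi (c : ι → G) : CompleteOrthogonalIdempotents (diagFam R c) := by
  refine ⟨⟨fun a => ?_, fun a b hab => ?_⟩, ?_⟩
  · unfold IsIdempotentElem diagFam
    rw [Matrix.diagonal_mul_diagonal]
    congr 1
    funext p
    split_ifs <;> simp
  · change diagFam R c a * diagFam R c b = 0
    unfold diagFam
    rw [Matrix.diagonal_mul_diagonal]
    rw [← Matrix.diagonal_zero]
    congr 1
    funext p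
    by_cases h1 : c p = a
    · have : c p ≠ b := fun h2 => hab (h1.symm.trans h2)
      simp [this]
    · simp [h1]
  · ext i j
    rw [Matrix.sum_apply]
    unfold diagFam
    simp only [Matrix.diagonal_apply, Matrix.one_apply]
    by_cases hij : i = j
    · simp [hij]
    · simp [hij]

theorem diagFam_map {S : Type*} [CommRing S] (φ : R →+* S) (c : ι → G) (a : G) :
    (diagFam R c a).map φ = diagFam S c a := by
  unfold diagFam
  rw [Matrix.diagonal_map (map_zero φ)]
  congr 1
  funext p
  change φ (if c p = a then 1 else 0) = _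
  split_ifs <;> simp

theorem rank_diagFam {K : Type u} [Field K] (c : ι → G) (a : G) :
    (diagFam K c a).rank = Fintype.card {p // c p = a} := by
  classical
  unfold diagFam
  rw [Matrix.rank_diagonal]
  apply Fintype.card_congr
  refine Equiv.subtypeEquivRight fun p => ?_
  by_cases h : c p = a <;> simp [h]

/-- a function with prescribed fibre cardinalities. -/
theorem exists_fibre_card (r : G → ℕ) (hr : ∑ a, r a = Fintype.card ι) :
    ∃ c : ι → G, ∀ a, Fintype.card {p // c p = a} = r a := by
  have hcard : Fintype.card ι = Fintype.card (Σ a, Fin (r a)) := by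
    rw [Fintype.card_sigma]
    simp [hr]
  let e : ι ≃ Σ a, Fin (r a) := Fintype.equivOfCardEq hcard
  refine ⟨fun p => (e p).1, fun a => ?_⟩
  have : Fintype.card {p // (e p).1 = a} = Fintype.card (Fin (r a)) := by
    apply Fintype.card_congr
    exact (e.subtypeEquiv (p := fun p => (e p).1 = a) (q := fun s => s.1 = a)
      (fun p => Iff.rfl)).trans (Equiv.sigmaSubtype a)
  rw [this, Fintype.card_fin]

end Diag

end Groth.Agent.Lib.Helper84.MuN
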