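import Mathlib
import Groth.Agent.Lib.Helper84.MuN.Grade
import Groth.Agent.Lib.Helper84.MuN.Idem

/-!
# The algebraic core of the rationality of dual cyclic subgroups of `GL_m` (helper84)
-/

set_option autoImplicit false
set_option linter.unusedSectionVars false
universe u v w
open TensorProduct

namespace Groth.Agent.Lib.Helper84.MuN

open Groth.Agent.Lib.Helper84.Weitz

section Const

variable {R : Type u} [CommRing R] {G : Type v} [CommGroup G] [Fintype G] [DecidableEq G]
  {ι : Type w} [Fintype ι] [DecidableEq ι]

omit [Fintype G] [DecidableEq G] [DecidableEq ι] in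
theorem cm_const_mul (A : Matrix ι ι R) (N : Matrix ι ι (MonoidAlgebra R G)) (g : G) :
    cm (A.map (algebraMap R (MonoidAlgebra R G)) * N) g = A * cm N g := by
  ext i j
  unfold cm
  rw [Matrix.mul_apply, Matrix.mul_apply, MonoidAlgebra.coeff_sum, Finsupp.finsetSum_apply]
  refine Finset.sum_congr rfl fun l _ => ?_
  rw [Matrix.map_apply, MonoidAlgebra.coe_algebraMap]
  simp only [Function.comp_apply, Algebra.algebraMap_self, RingHom.id_apply]
  exact MonoidAlgebra.coeff_single_one_mul _ _ _

omit [Fintype G] [DecidableEq G] [DecidableEq ι] in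
theorem cm_mul_const (A : Matrix ι ι R) (N : Matrix ι ι (MonoidAlgebra R G)) (g : G) :
    cm (N * A.map (algebraMap R (MonoidAlgebra R G))) g = cm N g * A := by
  ext i j
  unfold cm
  rw [Matrix.mul_apply, Matrix.mul_apply, MonoidAlgebra.coeff_sum, Finsupp.finsetSum_apply]
  refine Finset.sum_congr rfl fun l _ => ?_
  rw [Matrix.map_apply, MonoidAlgebra.coe_algebraMap]
  simp only [Function.comp_apply, Algebra.algebraMap_self, RingHom.id_apply]
  exact MonoidAlgebra.coeff_mul_single_one _ _ _

omit [DecidableEq ι] in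
theorem const_mul_ofFam_mul_const (A A' : Matrix ι ι R) (E : G → Matrix ι ι R) :
    A.map (algebraMap R (MonoidAlgebra R G)) * ofFam E * A'.map (algebraMap R (MonoidAlgebra R G))
      = ofFam fun a => A * E a * A' := by
  rw [← ofFam_cm (A.map (algebraMap R (MonoidAlgebra R G)) * ofFam E *
    A'.map (algebraMap R (MonoidAlgebra R G)))]
  congr 1
  funext a
  rw [cm_mul_const, cm_const_mul, cm_ofFam]

end Const

section Isolate

variable {K : Type u} [CommRing K] {G : Type v} [Fintype G] [DecidableEq G]
  {ι : Type w} [Fintype ι] [DecidableEq ι] {W : Type*} [AddCommGroup W] [Module K W]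

/-- isolating one term of a relation with coefficients in a system of orthogonal idempotents. -/
theorem coi_isolate {F : G → Matrix ι ι K} (hF : CompleteOrthogonalIdempotents F) (D : G → W)
    (h : ∀ i j, ∑ b, F b i j • D b = 0) (c : G) (i j : ι) : F c i j • D c = 0 := by
  have h1 : ∑ l, F c i l • ∑ b, F b l j • D b = 0 := by
    simp_rw [h, smul_zero, Finset.sum_const_zero]
  simp_rw [Finset.smul_sum, smul_smul] at h1
  rw [Finset.sum_comm] at h1
  simp_rw [← Finset.sum_smul] at h1
  have h2 : ∀ b, ∑ l, F c i l * F b l j = if c = b then F c i j else 0 := by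
    intro b
    have := congrFun (congrFun (hF.toOrthogonalIdempotents.mul_eq c b) i) j
    rw [Matrix.mul_apply] at this
    rw [this]
    split_ifs <;> rfl
  simp_rw [h2] at h1
  rw [Finset.sum_eq_single c] at h1
  · rwa [if_pos rfl] at h1
  · intro b _ hne
    rw [if_neg (Ne.symm hne), zero_smul]
  · intro h; exact absurd (Finset.mem_univ c) h

end Isolate

section Core

variable {k : Type u} {K : Type v} [Field k] [Field K] [Algebra k K]
  {G : Type w} [CommGroup G] [Fintype G] [DecidableEq G]
  {ι : Type*} [Fintype ι] [DecidableEq ι]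

variable (k K G) in
/-- `k[G] → K[G]`. -/
noncomputable def incl : MonoidAlgebra k G →ₐ[k] MonoidAlgebra K G :=
  MonoidAlgebra.mapAlgHom G (Algebra.ofId k K)

omit [Fintype G] [DecidableEq G] in
@[simp] theorem incl_single (g : G) (r : k) :
    incl k K G (MonoidAlgebra.single g r) = MonoidAlgebra.single g (algebraMap k K r) := by
  unfold incl
  rw [MonoidAlgebra.mapAlgHom_single]
  rfl

omit [DecidableEq G] [Fintype ι] [DecidableEq ι] in
theorem ofFam_map_incl (E : G → Matrix ι ι k) :
    (ofFam E).map (incl k K G) = ofFam fun a => (E a).map (algebraMap k K) := by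
  funext i j
  unfold ofFam
  rw [Matrix.map_apply, map_sum]
  refine Finset.sum_congr rfl fun g _ => ?_
  rw [incl_single]
  rfl

omit [DecidableEq G] [Fintype ι] [DecidableEq ι] in
theorem ofFam_map_algHom (F : G → Matrix ι ι k) (θ : MonoidAlgebra k G →ₐ[k] MonoidAlgebra K G)
    (i j : ι) :
    (ofFam F).map θ i j = ∑ b, algebraMap k K (F b i j) • θ (MonoidAlgebra.single b 1) := by
  unfold ofFam
  rw [Matrix.map_apply, map_sum]
  refine Finset.sum_congr rfl fun b _ => ?_
  have e1 : MonoidAlgebra.single b (F b i j) = F b i j • MonoidAlgebra.single b (1 : k) := by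
    rw [MonoidAlgebra.smul_single, smul_eq_mul, mul_one]
  rw [e1, map_smul, algebraMap_smul]

theorem coi_map {R S : Type*} [CommRing R] [CommRing S] (φ : R →+* S) {E : G → Matrix ι ι R}
    (hE : CompleteOrthogonalIdempotents E) :
    CompleteOrthogonalIdempotents fun a => (E a).map φ := by
  have := hE.map (RingHom.mapMatrix φ)
  exact this

theorem coi_conj {R : Type*} [CommRing R] {E : G → Matrix ι ι R}
    (hE : CompleteOrthogonalIdempotents E) (P Q : Matrix ι ι R) (hQP : Q * P = 1) (hPQ : P * Q = 1) :
    CompleteOrthogonalIdempotents fun a => P * E a * Q := by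
  have hmul := hE.toOrthogonalIdempotents.mul_eq
  have key : ∀ a b, (P * E a * Q) * (P * E b * Q) = P * (E a * E b) * Q := by
    intro a b
    calc (P * E a * Q) * (P * E b * Q) = P * E a * (Q * P) * E b * Q := by
          simp only [Matrix.mul_assoc]
      _ = P * (E a * E b) * Q := by rw [hQP, Matrix.mul_one]; simp only [Matrix.mul_assoc]
  refine ⟨⟨fun a => ?_, fun a b hab => ?_⟩, ?_⟩
  · unfold IsIdempotentElem
    rw [key, hmul, if_pos rfl]
  · change (P * E a * Q) * (P * E b * Q) = 0
    rw [key, hmul, if_neg hab, Matrix.mul_zero, Matrix.zero_mul]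
  · rw [← Finset.sum_mul, ← Finset.mul_sum, hE.complete, Matrix.mul_one, hPQ]

/-- **the core of the first rationality condition.** -/
theorem core80 {E F : G → Matrix ι ι k} (hE : CompleteOrthogonalIdempotents E)
    (hF : CompleteOrthogonalIdempotents F)
    (hgE : Subgroup.closure {a | E a ≠ 0} = ⊤) (hgF : Subgroup.closure {b | F b ≠ 0} = ⊤)
    (θ : MonoidAlgebra k G →ₐ[k] MonoidAlgebra K G) (Γ : Matrix ι ι K) (hΓ : IsUnit Γ.det)
    (heq : Γ.map (algebraMap K (MonoidAlgebra K G)) * (ofFam E).map (incl k K G)
      = (ofFam F).map θ * Γ.map (algebraMap K (MonoidAlgebra K G))) :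
    ∃ (ψ : G ≃* G) (P Q : Matrix ι ι k), P * Q = 1 ∧ Q * P = 1 ∧ ∀ a, P * E a = F (ψ a) * P := by
  classical
  set φ := algebraMap k K with hφ
  have hφinj : Function.Injective φ := (algebraMap k K).injective
  set Γ' := Γ⁻¹ with hΓ'
  have hΓΓ' : Γ * Γ' = 1 := Matrix.mul_nonsing_inv Γ hΓ
  have hΓ'Γ : Γ' * Γ = 1 := Matrix.nonsing_inv_mul Γ hΓ
  set B := MonoidAlgebra K G
  set EK : G → Matrix ι ι K := fun a => (E a).map φ with hEK
  set FK : G → Matrix ι ι K := fun a => (F a).map φ with hFK
  have hEKc : CompleteOrthogonalIdempotents EK := coi_map φ hE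
  have hFKc : CompleteOrthogonalIdempotents FK := coi_map φ hF
  set E' : G → Matrix ι ι K := fun a => Γ * EK a * Γ' with hE'
  have hE'c : CompleteOrthogonalIdempotents E' := coi_conj hEKc Γ Γ' hΓ'Γ hΓΓ'
  -- the matrix `N'`
  have hN' : (ofFam F).map θ = ofFam E' := by
    rw [← const_mul_ofFam_mul_const, ← ofFam_map_incl, heq, Matrix.mul_assoc, ← Matrix.map_mul,
      hΓΓ']
    have : (1 : Matrix ι ι K).map (algebraMap K B) = 1 := by
      ext i j
      simp [Matrix.one_apply, apply_ite (algebraMap K B)]
    rw [this, Matrix.mul_one]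
  have hcorep : IsCorep K ((ofFam F).map θ) := hN' ▸ isCorep_ofFam hE'c
  set T : G → B := fun b => θ (MonoidAlgebra.single b 1) with hT
  have hTmul : ∀ b c, T (b * c) = T b * T c := by
    intro b c
    simp only [hT]
    rw [← map_mul, MonoidAlgebra.single_mul_single, mul_one]
  have hT1 : T 1 = 1 := by
    simp only [hT]
    rw [← MonoidAlgebra.one_def, map_one]
  have hentry : ∀ i j, (ofFam F).map θ i j = ∑ b, FK b i j • T b := by
    intro i j
    rw [ofFam_map_algHom]
    rfl
  -- group-likeness on the support
  have hmulK := hFKc.toOrthogonalIdempotents.mul_eq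
  have hgl : ∀ c, F c ≠ 0 → IsGroupLikeElem K (T c) := by
    intro c hc
    obtain ⟨i, j, hij⟩ : ∃ i j, F c i j ≠ 0 := by
      by_contra hcon
      push Not at hcon
      exact hc (by ext i j; exact hcon i j)
    have hij' : FK c i j ≠ 0 := by
      change φ (F c i j) ≠ 0
      rwa [Ne, map_eq_zero_iff φ hφinj]
    refine ⟨?_, ?_⟩
    · -- counit
      have h1 : ∀ i j, ∑ b, FK b i j • (Coalgebra.counit (R := K) (T b) - 1) = 0 := by
        intro i j
        have h2 := hcorep.counit i j
        rw [hentry, map_sum] at h2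
        simp only [map_smul] at h2
        have h3 : ∑ b, FK b i j = if i = j then 1 else 0 := by
          have := congrFun (congrFun hFKc.complete i) j
          rw [Matrix.sum_apply, Matrix.one_apply] at this
          exact this
        simp only [smul_eq_mul] at h2
        calc ∑ b, FK b i j • (Coalgebra.counit (R := K) (T b) - 1)
            = ∑ b, FK b i j * Coalgebra.counit (R := K) (T b) - ∑ b, FK b i j := by
              simp only [smul_eq_mul, mul_sub, mul_one, Finset.sum_sub_distrib]
          _ = 0 := by rw [h2, h3, sub_self]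
      have h4 := coi_isolate hFKc _ h1 c i j
      rw [smul_eq_mul, mul_eq_zero] at h4
      rcases h4 with h4 | h4
      · exact absurd h4 hij'
      · exact sub_eq_zero.1 h4
    · -- comul
      have h1 : ∀ i j, ∑ b, FK b i j • (Coalgebra.comul (R := K) (T b) - T b ⊗ₜ[K] T b) = 0 := by
        intro i j
        have h2 := hcorep.comul i j
        rw [hentry, map_sum] at h2
        simp only [map_smul] at h2
        have h3 : ∑ l, (ofFam F).map θ i l ⊗ₜ[K] (ofFam F).map θ l j
            = ∑ b, FK b i j • (T b ⊗ₜ[K] T b) := by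
          simp_rw [hentry, TensorProduct.sum_tmul, TensorProduct.tmul_sum,
            TensorProduct.smul_tmul_smul]
          rw [Finset.sum_comm]
          refine Finset.sum_congr rfl fun b _ => ?_
          rw [Finset.sum_comm]
          simp_rw [← Finset.sum_smul]
          have h5 : ∀ b', ∑ l, FK b i l * FK b' l j = if b = b' then FK b i j else 0 := by
            intro b'
            have := congrFun (congrFun (hmulK b b') i) j
            rw [Matrix.mul_apply] at this
            rw [this]
            split_ifs <;> rfl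
          simp_rw [h5]
          rw [Finset.sum_eq_single b]
          · rw [if_pos rfl]
          · intro b' _ hne
            rw [if_neg (Ne.symm hne), zero_smul]
          · intro h; exact absurd (Finset.mem_univ b) h
        simp only [smul_sub, Finset.sum_sub_distrib]
        rw [h2, h3, sub_self]
      have h4 := coi_isolate hFKc _ h1 c i j
      rw [smul_eq_zero] at h4
      rcases h4 with h4 | h4
      · exact absurd h4 hij'
      · exact sub_eq_zero.1 h4
  -- all `T c` are singles
  have hsingle : ∀ c, ∃ g, T c = MonoidAlgebra.single g 1 := by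
    have hS : ∀ c ∈ Subgroup.closure {b | F b ≠ 0}, ∃ g, T c = MonoidAlgebra.single g 1 := by
      intro c hc
      induction hc using Subgroup.closure_induction with
      | mem x hx =>
        obtain ⟨g, hg⟩ := MonoidAlgebra.isGroupLikeElem_iff_mem_range_single_one.1 (hgl x hx)
        exact ⟨g, hg.symm⟩
      | one => exact ⟨1, by rw [hT1, MonoidAlgebra.one_def]⟩
      | mul x y _ _ hx hy =>
        obtain ⟨g, hg⟩ := hx
        obtain ⟨h, hh⟩ := hy
        exact ⟨g * h, by rw [hTmul, hg, hh, MonoidAlgebra.single_mul_single, mul_one]⟩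
      | inv x _ hx =>
        obtain ⟨g, hg⟩ := hx
        refine ⟨g⁻¹, ?_⟩
        have h1 : T x⁻¹ * T x = 1 := by rw [← hTmul, inv_mul_cancel, hT1]
        have h2 : T x⁻¹ = T x⁻¹ * (T x * MonoidAlgebra.single g⁻¹ 1) := by
          rw [hg, MonoidAlgebra.single_mul_single, mul_inv_cancel, mul_one, ← MonoidAlgebra.one_def,
            mul_one]
        rw [h2, ← mul_assoc, h1, one_mul]
    intro c
    exact hS c (hgF ▸ Subgroup.mem_top c)
  choose π hπ using hsingle
  have hπmul : ∀ b c, π (b * c) = π b * π c := by
    intro b c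
    have h1 := hTmul b c
    rw [hπ, hπ, hπ, MonoidAlgebra.single_mul_single, mul_one] at h1
    exact (MonoidAlgebra.single_left_inj one_ne_zero).1 h1
  -- coefficients
  have hcoef : ∀ a, E' a = ∑ b, if π b = a then FK b else 0 := by
    intro a
    rw [← cm_ofFam E' a, ← hN']
    ext i j
    unfold cm
    rw [hentry, MonoidAlgebra.coeff_sum, Finsupp.finsetSum_apply, Matrix.sum_apply]
    refine Finset.sum_congr rfl fun b _ => ?_
    rw [hπ, MonoidAlgebra.smul_single, smul_eq_mul, mul_one, MonoidAlgebra.coeff_single,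
      Finsupp.single_apply]
    split_ifs <;> rfl
  -- surjectivity of `π`
  let πh : G →* G := ⟨⟨π, by
    have := hπmul 1 1
    rw [mul_one] at this
    exact (mul_eq_left (a := π 1)).1 this.symm⟩, hπmul⟩
  have hEK0 : ∀ a, E a ≠ 0 → E' a ≠ 0 := by
    intro a ha h0
    apply ha
    have h1 : EK a = Γ' * E' a * Γ := by
      simp only [hE']
      calc EK a = (Γ' * Γ) * EK a * (Γ' * Γ) := by rw [hΓ'Γ, Matrix.one_mul, Matrix.mul_one]
        _ = Γ' * (Γ * EK a * Γ') * Γ := by simp only [Matrix.mul_assoc]
    rw [h0, Matrix.mul_zero, Matrix.zero_mul] at h1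
    ext i j
    have := congrFun (congrFun h1 i) j
    change φ (E a i j) = 0 at this
    exact (map_eq_zero_iff φ hφinj).1 this
  have hsurj : Function.Surjective π := by
    have hr : πh.range = ⊤ := by
      rw [eq_top_iff, ← hgE, Subgroup.closure_le]
      intro a ha
      have h1 := hEK0 a ha
      rw [hcoef] at h1
      by_contra hcon
      apply h1
      refine Finset.sum_eq_zero fun b _ => ?_
      rw [if_neg]
      intro hb
      exact hcon ⟨b, hb⟩
    intro a
    have : a ∈ πh.range := hr ▸ Subgroup.mem_top a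
    exact this
  have hbij : Function.Bijective π := (Finite.surjective_iff_bijective).1 hsurj
  let πe : G ≃* G := MulEquiv.ofBijective πh hbij
  have hcoef' : ∀ a, E' a = FK (πe.symm a) := by
    intro a
    rw [hcoef, Finset.sum_eq_single (πe.symm a)]
    · rw [if_pos]
      exact πe.apply_symm_apply a
    · intro b _ hne
      rw [if_neg]
      intro hb
      apply hne
      rw [← hb]
      exact (πe.symm_apply_apply b).symm
    · intro h; exact absurd (Finset.mem_univ _) h
  -- ranks
  have hrank : ∀ a, (E a).rank = (F (πe.symm a)).rank := by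
    intro a
    rw [← rank_map_field (K := K) (E a), ← rank_map_field (K := K) (F (πe.symm a))]
    change (EK a).rank = (FK (πe.symm a)).rank
    rw [← hcoef']
    simp only [hE']
    have hΓ'd : IsUnit Γ'.det := by
      have : Γ'.det * Γ.det = 1 := by rw [← Matrix.det_mul, hΓ'Γ, Matrix.det_one]
      exact IsUnit.of_mul_eq_one _ this
    rw [Matrix.rank_mul_eq_left_of_isUnit_det _ _ hΓ'd,
      Matrix.rank_mul_eq_right_of_isUnit_det _ _ hΓ]
  have hFc' : CompleteOrthogonalIdempotents (F ∘ πe.symm) :=
    (CompleteOrthogonalIdempotents.equiv πe.symm.toEquiv).2 hF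
  obtain ⟨P, Q, hPQ, hQP, hconj⟩ := exists_conj hE hFc' hrank
  exact ⟨πe.symm, P, Q, hPQ, hQP, hconj⟩

end Core

end Groth.Agent.Lib.Helper84.MuN
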