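import Mathlib
import Groth.Agent.Lib.Helper84.MuN.Core

/-!
# Support of a grading and surjectivity; the diagonal model (helper84)
-/

set_option autoImplicit false
set_option linter.unusedSectionVars false
universe u v w
open TensorProduct

namespace Groth.Agent.Lib.Helper84.MuN

section Supp

variable {K : Type u} [Field K] {G : Type v} [CommGroup G] [Fintype G] [DecidableEq G]
  {ι : Type w} [Fintype ι] [DecidableEq ι]

/-- the subgroup generated by the support of a family of matrices. -/
def suppGrp (E : G → Matrix ι ι K) : Subgroup G := Subgroup.closure {a | E a ≠ 0}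

/-- `K[G] → K[G/S]`. -/
noncomputable def Qm (S : Subgroup G) : MonoidAlgebra K G →ₐ[K] MonoidAlgebra K (G ⧸ S) :=
  MonoidAlgebra.mapDomainAlgHom K K (QuotientGroup.mk' S)

omit [Fintype G] [DecidableEq G] in
@[simp] theorem Qm_single (S : Subgroup G) (g : G) (r : K) :
    Qm S (MonoidAlgebra.single g r) = MonoidAlgebra.single (g : G ⧸ S) r := by
  unfold Qm
  simp [MonoidAlgebra.mapDomainAlgHom_apply, MonoidAlgebra.mapDomain_single]

omit [DecidableEq G] in
theorem Qm_ofFam {E : G → Matrix ι ι K} (hE : CompleteOrthogonalIdempotents E) (i j : ι) :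
    Qm (suppGrp E) (ofFam E i j) = MonoidAlgebra.single 1 (if i = j then 1 else 0) := by
  classical
  unfold ofFam
  rw [map_sum]
  have h1 : ∀ g, Qm (suppGrp E) (MonoidAlgebra.single g (E g i j))
      = MonoidAlgebra.single (1 : G ⧸ suppGrp E) (E g i j) := by
    intro g
    rw [Qm_single]
    by_cases hg : E g = 0
    · rw [hg]
      simp
    · have : (g : G ⧸ suppGrp E) = 1 := by
        rw [QuotientGroup.eq_one_iff]
        exact Subgroup.subset_closure hg
      rw [this]
  simp_rw [h1]
  have h2 : ∑ g, E g i j = if i = j then 1 else 0 := by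
    have := congrFun (congrFun hE.complete i) j
    rw [Matrix.sum_apply, Matrix.one_apply] at this
    exact this
  rw [← h2]
  apply MonoidAlgebra.coeff_injective
  rw [MonoidAlgebra.coeff_sum]
  simp only [MonoidAlgebra.coeff_single]
  rw [← Finsupp.single_finsetSum]

omit [Fintype G] [DecidableEq G] [Fintype ι] [DecidableEq ι] in
/-- if `K[G]` is spanned by elements which become constants in `K[G/S]`, then `S = G`. -/
theorem eq_top_of_span (S : Subgroup G) (T : Set (MonoidAlgebra K G))
    (hT : ∀ x ∈ T, ∃ r : K, Qm S x = MonoidAlgebra.single 1 r)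
    (hspan : Submodule.span K T = ⊤) : S = ⊤ := by
  classical
  let L : Submodule K (MonoidAlgebra K G) :=
    (Submodule.span K {(1 : MonoidAlgebra K (G ⧸ S))}).comap (Qm S).toLinearMap
  have hL : Submodule.span K T ≤ L := by
    rw [Submodule.span_le]
    intro x hx
    obtain ⟨r, hr⟩ := hT x hx
    change (Qm S) x ∈ Submodule.span K {(1 : MonoidAlgebra K (G ⧸ S))}
    rw [hr, Submodule.mem_span_singleton]
    refine ⟨r, ?_⟩
    rw [MonoidAlgebra.one_def, MonoidAlgebra.smul_single, smul_eq_mul, mul_one]
  rw [hspan] at hL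
  rw [eq_top_iff]
  intro b _
  have hb : MonoidAlgebra.single b (1 : K) ∈ L := hL Submodule.mem_top
  change (Qm S) (MonoidAlgebra.single b (1 : K)) ∈
    Submodule.span K {(1 : MonoidAlgebra K (G ⧸ S))} at hb
  rw [Qm_single, Submodule.mem_span_singleton] at hb
  obtain ⟨r, hr⟩ := hb
  rw [MonoidAlgebra.one_def, MonoidAlgebra.smul_single, smul_eq_mul, mul_one] at hr
  have h1 := congrArg (fun x => x.coeff (b : G ⧸ S)) hr
  simp only [MonoidAlgebra.coeff_single, Finsupp.single_apply, if_true] at h1
  by_cases h2 : (1 : G ⧸ S) = (b : G ⧸ S)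
  · exact (QuotientGroup.eq_one_iff b).1 h2.symm
  · rw [if_neg h2] at h1
    exact absurd h1.symm one_ne_zero

end Supp

section Diag

variable {K : Type u} [Field K] {G : Type v} [Fintype G] [DecidableEq G]
  {ι : Type w} [Fintype ι] [DecidableEq ι]

/-- **the core of the second rationality condition**: a complete system of orthogonal idempotent
matrices is conjugate to a diagonal one. -/
theorem core81 {E' : G → Matrix ι ι K} (hE' : CompleteOrthogonalIdempotents E') :
    ∃ (c : ι → G) (P Q : Matrix ι ι K), P * Q = 1 ∧ Q * P = 1 ∧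
      (∀ a, P * E' a = diagFam K c a * P) ∧ ∀ a, E' a ≠ 0 → ∃ p, c p = a := by
  classical
  obtain ⟨c, hc⟩ := exists_fibre_card (ι := ι) (fun a => (E' a).rank) (sum_rank_eq_card hE')
  obtain ⟨P, Q, hPQ, hQP, hconj⟩ := exists_conj hE' (diagFam_coi (R := K) c)
    (fun a => by rw [rank_diagFam, hc a])
  refine ⟨c, P, Q, hPQ, hQP, hconj, fun a ha => ?_⟩
  by_contra hcon
  push Not at hcon
  have h0 : Fintype.card {p // c p = a} = 0 := by
    rw [Fintype.card_eq_zero_iff]
    exact ⟨fun ⟨p, hp⟩ => hcon p hp⟩
  rw [hc a] at h0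
  apply ha
  have h1 : LinearMap.range (E' a).mulVecLin = ⊥ := by
    apply Submodule.finrank_eq_zero.1
    exact h0
  rw [LinearMap.range_eq_bot] at h1
  have : LinearMap.toMatrix' (E' a).mulVecLin = 0 := by rw [h1]; simp
  rwa [← Matrix.toLin'_apply', LinearMap.toMatrix'_toLin'] at this

theorem diagFam_ne_zero {R : Type*} [CommRing R] [Nontrivial R] (c : ι → G) (p : ι) :
    diagFam R c (c p) ≠ 0 := by
  intro h
  have := congrFun (congrFun h p) p
  unfold diagFam at this
  simp at this

theorem diagFam_eq_zero {R : Type*} [CommRing R] (c : ι → G) (a : G) (h : ∀ p, c p ≠ a) :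
    diagFam R c a = 0 := by
  unfold diagFam
  rw [← Matrix.diagonal_zero]
  congr 1
  funext p
  rw [if_neg (h p)]

end Diag

end Groth.Agent.Lib.Helper84.MuN
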