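import Mathlib
import Groth.Prelude.Def_GLin5
import Groth.Agent.Lib.Helper84.GLnSurj
import Groth.Agent.Lib.Helper84.Weitz.Corep

/-!
# Points of `GL_n` as matrices (helper84)
-/

set_option autoImplicit false
set_option linter.unusedSectionVars false
universe u v
open TensorProduct

namespace Groth.Agent.Lib.Helper84.MuN

open CoordGrp Groth.Agent.Lib.Helper84.Weitz Groth.Agent.Lib.Helper84.GLnSurj

variable {k : Type u} [Field k] {n : ℕ}

section Pts

variable {B : Type u} [CommRing B] [Algebra k B] {B' : Type u} [CommRing B'] [Algebra k B']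

/-- the matrix of a point of `GL_n`. -/
noncomputable def matOf (α : GLn n k →ₐ[k] B) : Matrix (Fin n) (Fin n) B := fun i j => α (GLn.X i j)

theorem matOf_apply (α : GLn n k →ₐ[k] B) (i j : Fin n) : matOf α i j = α (GLn.X i j) := rfl

theorem det_matOf_mul (α : GLn n k →ₐ[k] B) : (matOf α).det * α GLn.Dinv = 1 := by
  have h1 : α (GLn.det : GLn n k) = (matOf α).det := by
    rw [GLn.det_eq, AlgHom.map_det]
    rfl
  rw [← h1, ← map_mul, GLn.det_mul_Dinv, map_one]

theorem isUnit_det_matOf (α : GLn n k →ₐ[k] B) : IsUnit (matOf α).det :=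
  IsUnit.of_mul_eq_one _ (det_matOf_mul α)

theorem algHom_ext_X {α β : GLn n k →ₐ[k] B} (h : matOf α = matOf β) : α = β := by
  apply algHom_ext_GLn
  · intro i j
    exact congrFun (congrFun h i) j
  · have h1 := det_matOf_mul α
    have h2 := det_matOf_mul β
    rw [h] at h1
    calc α GLn.Dinv = α GLn.Dinv * ((matOf β).det * β GLn.Dinv) := by rw [h2, mul_one]
      _ = ((matOf β).det * α GLn.Dinv) * β GLn.Dinv := by ring
      _ = β GLn.Dinv := by rw [h1, one_mul]

theorem matOf_conv (α β : GLn n k →ₐ[k] B) :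
    matOf (WithConv.toConv α * WithConv.toConv β).ofConv = matOf α * matOf β := by
  ext i j
  rw [matOf_apply, Matrix.mul_apply]
  have := AlgHom.convMul_apply (WithConv.toConv α) (WithConv.toConv β) (GLn.X i j : GLn n k)
  rw [comul_GLn_X, map_sum] at this
  simp only [Algebra.TensorProduct.lift_tmul] at this
  exact this

theorem matOf_comp (φ : B →ₐ[k] B') (α : GLn n k →ₐ[k] B) :
    matOf (φ.comp α) = (matOf α).map φ := by
  ext i j
  rfl

/-- the point of `GL_n` given by an invertible matrix. -/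
noncomputable def ptOfMat (M : Matrix (Fin n) (Fin n) B) (hM : IsUnit M.det) : GLn n k →ₐ[k] B :=
  GLn.pt n k M ↑(hM.unit⁻¹) (by
    have := hM.unit.mul_inv
    rwa [IsUnit.unit_spec] at this)

@[simp] theorem matOf_ptOfMat (M : Matrix (Fin n) (Fin n) B) (hM : IsUnit M.det) :
    matOf (ptOfMat (k := k) M hM) = M := by
  ext i j
  unfold ptOfMat
  rw [matOf_apply, GLn.pt_X]

theorem matOf_one : matOf ((Algebra.ofId k B).comp (Bialgebra.counitAlgHom k (GLn n k))) = 1 := by
  ext i j
  rw [matOf_apply, AlgHom.comp_apply, Bialgebra.counitAlgHom_apply, counit_GLn_X, Matrix.one_apply]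
  split_ifs <;> simp

end Pts

section Corep

variable {O : Type u} [CommRing O] [HopfAlgebra k O]

theorem isCorep_matOf (ρ : GLn n k →ₐc[k] O) :
    IsCorep k (matOf (ρ : GLn n k →ₐ[k] O)) := by
  refine ⟨fun i j => ?_, fun i j => ?_⟩
  · have h1 := CoalgHomClass.map_comp_comul_apply ρ (GLn.X i j : GLn n k)
    rw [matOf_apply]
    change Coalgebra.comul (R := k) (ρ (GLn.X i j)) = _
    rw [← h1, comul_GLn_X, map_sum]
    rfl
  · rw [matOf_apply]
    change Coalgebra.counit (R := k) (ρ (GLn.X i j)) = _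
    rw [CoalgHomClass.counit_comp_apply]
    exact counit_GLn_X i j

/-- the bialgebra map attached to a corepresentation. -/
noncomputable def bialgOfCorep {N : Matrix (Fin n) (Fin n) O} (hN : IsCorep k N) :
    GLn n k →ₐc[k] O :=
  piBialg N hN.comul hN.counit

@[simp] theorem matOf_bialgOfCorep {N : Matrix (Fin n) (Fin n) O} (hN : IsCorep k N) :
    matOf ((bialgOfCorep hN : GLn n k →ₐc[k] O) : GLn n k →ₐ[k] O) = N := by
  ext i j
  exact piBialg_X N hN.comul hN.counit i j

end Corep

end Groth.Agent.Lib.Helper84.MuN
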