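import Mathlib
import Groth.Agent.Lib.Helper84.MuN.UPt
import Groth.Agent.Lib.Helper84.MuN.BCAdj
import Groth.Agent.Lib.Helper84.MuN.Core2
import Groth.Agent.Lib.Helper84.MuN.GLnPts
import Groth.Agent.Lib.Helper84.Obs.Setup

/-!
# Dictionary: homomorphisms from `μ`-type groups to `GL_m` and matrices (helper84)
-/

set_option autoImplicit false
set_option linter.unusedSectionVars false
universe u
open CategoryTheory MonoidalCategory CartesianMonoidalCategory MonObj GrpObj AlgebraicGeometry Opposite
open CoactBr Limits TensorProduct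

namespace Groth.Agent.Lib.Helper84.MuN

open CoordGrp Groth.Agent.Lib.Helper84.Weitz Groth.Agent.Lib.Helper84.GLnSurj
open Groth.Agent.Lib.Helper84.AffGrpSch

section PtIso

variable {k : Type u} [CommRing k] {A A' : Type u} [CommRing A] [Algebra k A] [CommRing A']
  [Algebra k A']

/-- the isomorphism of affine schemes attached to an algebra isomorphism. -/
noncomputable def ptIso (e : A ≃ₐ[k] A') : sp k A' ≅ sp k A where
  hom := pt (e : A →ₐ[k] A')
  inv := pt (e.symm : A' →ₐ[k] A)
  hom_inv_id := by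
    rw [← pt_comp, ← pt_id]
    congr 1
    ext x
    simp
  inv_hom_id := by
    rw [← pt_comp, ← pt_id]
    congr 1
    ext x
    simp

end PtIso

section Conj

variable {k : Type u} [Field k] {m : ℕ} {B : Type u} [CommRing B] [Algebra k B]

theorem pt_mul_pt (a b : GLn m k →ₐ[k] B) :
    (pt a * pt b : sp k B ⟶ sp k (GLn m k))
      = pt (WithConv.toConv a * WithConv.toConv b).ofConv :=
  (pt_conv_mul (WithConv.toConv a) (WithConv.toConv b)).symm

theorem conj_pt_eq (a b c : GLn m k →ₐ[k] B) (h : matOf a * matOf b = matOf c * matOf a) :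
    (pt a * pt b * (pt a)⁻¹ : sp k B ⟶ sp k (GLn m k)) = pt c := by
  rw [mul_inv_eq_iff_eq_mul, pt_mul_pt, pt_mul_pt]
  congr 1
  apply algHom_ext_X
  rw [matOf_conv, matOf_conv, h]

theorem matOf_of_conj_pt_eq (a b c : GLn m k →ₐ[k] B)
    (h : (pt a * pt b * (pt a)⁻¹ : sp k B ⟶ sp k (GLn m k)) = pt c) :
    matOf a * matOf b = matOf c * matOf a := by
  rw [mul_inv_eq_iff_eq_mul, pt_mul_pt, pt_mul_pt] at h
  have h1 := pt_injective h
  rw [← matOf_conv, ← matOf_conv, h1]

end Conj

section UnitPt

variable {k : Type u} [CommRing k] {A : Type u} [CommRing A] [Algebra k A]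
  {B : Type u} [CommRing B] [Algebra k B]

theorem toUnit_comp_unitIso_inv_pt (c0 : A →ₐ[k] k) :
    toUnit (sp k B) ≫ (unitIso k).inv ≫ pt c0 = pt ((Algebra.ofId k B).comp c0) := by
  rw [toUnit_eq, Category.assoc, Iso.hom_inv_id_assoc, ← pt_comp]

end UnitPt

section Supp

variable {k K : Type u} [Field k] [Field K] [Algebra k K]
  {G : Type} [CommGroup G] [Fintype G] [DecidableEq G] {m : ℕ}

/-- if the image of `ρ : O(GL_m) → K[G]` spans, the support of its grading generates `G`. -/
theorem suppGrp_eq_top (ρ : GLn m k →ₐ[k] MonoidAlgebra K G)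
    {E : G → Matrix (Fin m) (Fin m) K} (hE : CompleteOrthogonalIdempotents E)
    (hρ : matOf ρ = ofFam E) (hspan : Submodule.span K (Set.range ρ) = ⊤) :
    suppGrp E = ⊤ := by
  apply eq_top_of_span (suppGrp E) (Set.range ρ) ?_ hspan
  rintro x ⟨a, rfl⟩
  have key : ((Qm (K := K) (suppGrp E)).restrictScalars k).comp ρ
      = (Algebra.ofId k (MonoidAlgebra K (G ⧸ suppGrp E))).comp
        (Bialgebra.counitAlgHom k (GLn m k)) := by
    apply algHom_ext_X
    rw [matOf_comp, matOf_one, hρ]
    apply Matrix.ext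
    intro i j
    rw [Matrix.map_apply]
    change Qm (suppGrp E) (ofFam E i j) = _
    rw [Qm_ofFam hE, Matrix.one_apply, MonoidAlgebra.one_def]
    split_ifs
    · rfl
    · simp
  refine ⟨algebraMap k K (Coalgebra.counit (R := k) a), ?_⟩
  have := AlgHom.congr_fun key a
  simp only [AlgHom.comp_apply, AlgHom.restrictScalars_apply, Bialgebra.counitAlgHom_apply] at this
  rw [this]
  rfl

end Supp

end Groth.Agent.Lib.Helper84.MuN
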