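import Mathlib
import Groth.Agent.Lib.Helper84.MuN.Dict

/-!
# The base change of an affine scheme is affine; closed immersions into it (helper84)
-/

set_option autoImplicit false
set_option linter.unusedSectionVars false
universe u
open CategoryTheory MonoidalCategory CartesianMonoidalCategory MonObj GrpObj AlgebraicGeometry Opposite
open CoactBr Limits TensorProduct

namespace Groth.Agent.Lib.Helper84.MuN

open Groth.Agent.Lib.Helper84.Obs

variable {k K : Type u} [Field k] [Field K] [Algebra k K]
  (A : Type u) [CommRing A] [Algebra k A]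

/-- the cartesian square `Spec (K ⊗ A)`. -/
theorem isPullback_tensor :
    IsPullback
      (Spec.map (CommRingCat.ofHom
        (Algebra.TensorProduct.includeRight : A →ₐ[k] K ⊗[k] A).toRingHom))
      (Spec.map (CommRingCat.ofHom
        (Algebra.TensorProduct.includeLeftRingHom : K →+* K ⊗[k] A)))
      (sp k A).hom (fkK k K) :=
  isPullback_SpecMap_of_isPushout _ _ _ _ (CommRingCat.isPushout_tensorProduct k K A).flip

/-- `Spec (K ⊗ A) ≅ (Spec A)_K` over `Spec K`. -/
noncomputable def bcSpIso : sp K (K ⊗[k] A) ≅ (Over.pullback (fkK k K)).obj (sp k A) :=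
  Over.isoMk (isPullback_tensor (K := K) A).isoPullback (by
    change (isPullback_tensor (K := K) A).isoPullback.hom ≫ pullback.snd _ _ = _
    rw [IsPullback.isoPullback_hom_snd]
    rfl)

theorem Psi_bcSpIso_hom :
    Psi (bcSpIso (K := K) A).hom
      = pt (Algebra.TensorProduct.includeRight : A →ₐ[k] K ⊗[k] A) := by
  apply Over.OverMorphism.ext
  rw [Psi_left]
  change (isPullback_tensor (K := K) A).isoPullback.hom ≫ pullback.fst _ _ = _
  rw [IsPullback.isoPullback_hom_fst]
  rfl

variable {A}
variable {B : Type u} [CommRing B] [Algebra K B] [Algebra k B] [IsScalarTower k K B]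

/-- a closed immersion into the base change of `Spec A` has coordinate ring spanned over `K` by
the image of `A`. -/
theorem span_range_eq_top_of_closedImmersion
    (y : sp K B ⟶ (Over.pullback (fkK k K)).obj (sp k A)) (hy : IsClosedImmersion y.left)
    (ρ : A →ₐ[k] B) (hρ : pt ρ = Psi y) : Submodule.span K (Set.range ρ) = ⊤ := by
  let P := isPullback_tensor (k := k) (K := K) A
  let t : Spec (CommRingCat.of B) ⟶ Spec (CommRingCat.of (K ⊗[k] A)) :=
    y.left ≫ P.isoPullback.inv
  have ht : IsClosedImmersion t := by
    haveI := hy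
    change IsClosedImmersion (y.left ≫ P.isoPullback.inv)
    infer_instance
  let ψc : CommRingCat.of (K ⊗[k] A) ⟶ CommRingCat.of B := Spec.preimage t
  have hψc : Spec.map ψc = t := Spec.map_preimage t
  have hsurj : Function.Surjective ψc.hom := by
    rw [← hψc] at ht
    exact @surjective_of_isClosedImmersion_SpecMap' _ _ ψc ht
  -- the two restrictions of `ψ`
  have h1 : (CommRingCat.ofHom
      (Algebra.TensorProduct.includeRight : A →ₐ[k] K ⊗[k] A).toRingHom) ≫ ψc
      = CommRingCat.ofHom ρ.toRingHom := by
    apply Spec.map_injective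
    rw [Spec.map_comp, hψc]
    change (y.left ≫ P.isoPullback.inv) ≫ _ = _
    rw [Category.assoc]
    erw [IsPullback.isoPullback_inv_fst]
    have h3 : (Psi y).left = Spec.map (CommRingCat.ofHom ρ.toRingHom) := by
      rw [← hρ]
      rfl
    rw [← h3, Psi_left]
    rfl
  have h2 : (CommRingCat.ofHom
      (Algebra.TensorProduct.includeLeftRingHom : K →+* K ⊗[k] A)) ≫ ψc
      = CommRingCat.ofHom (algebraMap K B) := by
    apply Spec.map_injective
    rw [Spec.map_comp, hψc]
    change (y.left ≫ P.isoPullback.inv) ≫ _ = _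
    rw [Category.assoc]
    erw [IsPullback.isoPullback_inv_snd]
    exact Over.w y
  have e1 : ∀ a : A, ψc.hom ((1 : K) ⊗ₜ[k] a) = ρ a := by
    intro a
    exact congrArg (fun f => f.hom a) h1
  have e2 : ∀ c : K, ψc.hom (c ⊗ₜ[k] (1 : A)) = algebraMap K B c := by
    intro c
    exact congrArg (fun f => f.hom c) h2
  have key : ∀ w : K ⊗[k] A, ψc.hom w ∈ Submodule.span K (Set.range ρ) := by
    intro w
    induction w using TensorProduct.induction_on with
    | zero => rw [map_zero]; exact Submodule.zero_mem _
    | tmul c a =>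
      have : c ⊗ₜ[k] a = (c ⊗ₜ[k] (1 : A)) * ((1 : K) ⊗ₜ[k] a) := by
        rw [Algebra.TensorProduct.tmul_mul_tmul, _root_.mul_one, _root_.one_mul]
      rw [this, map_mul, e1, e2, ← Algebra.smul_def]
      exact Submodule.smul_mem _ _ (Submodule.subset_span ⟨a, rfl⟩)
    | add x y hx hy =>
      rw [map_add]
      exact Submodule.add_mem _ hx hy
  rw [eq_top_iff]
  intro z _
  obtain ⟨w, rfl⟩ := hsurj z
  exact key w

end Groth.Agent.Lib.Helper84.MuN
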