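import Mathlib
import Groth.Agent.Lib.Helper84.MuN.Dict

/-!
# First rationality condition for dual cyclic subgroups of `GL_m` (helper84)
-/

set_option autoImplicit false
set_option linter.unusedSectionVars false
universe u
open CategoryTheory MonoidalCategory CartesianMonoidalCategory MonObj GrpObj AlgebraicGeometry Opposite
open CoactBr Limits TensorProduct

namespace Groth.Agent.Lib.Helper84.MuN

open CoordGrp Groth.Agent.Lib.Helper84.Weitz Groth.Agent.Lib.Helper84.GLnSurj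
open Groth.Agent.Lib.Helper84.AffGrpSch Groth.Agent.Lib.Helper84.Obs

section Algebra

variable {R : Type u} [CommRing R] {G : Type} [CommGroup G] [Fintype G] [DecidableEq G]
  {J : Type} [Fintype J] [DecidableEq J]

omit [DecidableEq J] in
theorem const_mul_ofFam (A : Matrix J J R) (E : G → Matrix J J R) :
    A.map (algebraMap R (MonoidAlgebra R G)) * ofFam E = ofFam fun a => A * E a := by
  rw [← ofFam_cm (A.map (algebraMap R (MonoidAlgebra R G)) * ofFam E)]
  congr 1
  funext a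
  rw [cm_const_mul, cm_ofFam]

omit [DecidableEq J] in
theorem ofFam_mul_const (A : Matrix J J R) (E : G → Matrix J J R) :
    ofFam E * A.map (algebraMap R (MonoidAlgebra R G)) = ofFam fun a => E a * A := by
  rw [← ofFam_cm (ofFam E * A.map (algebraMap R (MonoidAlgebra R G)))]
  congr 1
  funext a
  rw [cm_mul_const, cm_ofFam]

omit [DecidableEq G] [Fintype J] [DecidableEq J] in
theorem ofFam_map_domCongr (F : G → Matrix J J R) (ψ : G ≃* G) :
    (ofFam F).map (MonoidAlgebra.domCongr R R ψ.symm) = ofFam fun a => F (ψ a) := by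
  funext i j
  unfold ofFam
  rw [Matrix.map_apply, map_sum]
  simp only [MonoidAlgebra.domCongr_single]
  exact (Equiv.sum_comp ψ.toEquiv fun b => MonoidAlgebra.single (ψ.symm b) (F b i j)).symm.trans
    (Finset.sum_congr rfl fun a _ => by simp)

end Algebra

section Extract

variable {k : Type u} [Field k] {m : ℕ}
  {G : Type} [CommGroup G] [Fintype G] [DecidableEq G]

/-- the grading attached to a closed immersion `sp k k[G] ⟶ GL_m`. -/
theorem exists_grading (i' : sp k (MonoidAlgebra k G) ⟶ sp k (GLn m k)) [IsMonHom i']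
    (hi' : IsClosedImmersion i'.left) :
    ∃ (ρ : GLn m k →ₐc[k] MonoidAlgebra k G) (E : G → Matrix (Fin m) (Fin m) k),
      CompleteOrthogonalIdempotents E ∧ matOf (ρ : GLn m k →ₐ[k] MonoidAlgebra k G) = ofFam E ∧
      pt (ρ : GLn m k →ₐ[k] MonoidAlgebra k G) = i' ∧ suppGrp E = ⊤ := by
  obtain ⟨ρ, hρ⟩ := exists_bialgHom_of_isMonHom i'
  have hcorep := isCorep_matOf ρ
  have hE := IsCorep.coi hcorep
  have hsurj : Function.Surjective ρ := by
    have h2 : i'.left = Spec.map (CommRingCat.ofHom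
        (ρ : GLn m k →ₐ[k] MonoidAlgebra k G).toRingHom) := by
      rw [← hρ]
      rfl
    rw [h2] at hi'
    exact @surjective_of_isClosedImmersion_SpecMap' _ _
      (CommRingCat.ofHom (ρ : GLn m k →ₐ[k] MonoidAlgebra k G).toRingHom) hi'
  refine ⟨ρ, cm (matOf (ρ : GLn m k →ₐ[k] MonoidAlgebra k G)), hE, (ofFam_cm _).symm, hρ, ?_⟩
  apply suppGrp_eq_top (k := k) (K := k) (ρ : GLn m k →ₐ[k] MonoidAlgebra k G) hE (ofFam_cm _).symm
  have : Set.range (ρ : GLn m k →ₐ[k] MonoidAlgebra k G) = Set.univ :=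
    Set.range_eq_univ.2 hsurj
  rw [this, Submodule.span_univ]

end Extract

section Main

variable (k : Type u) [Field k] (K : Type u) [Field K] [Algebra k K] (m n : ℕ)

theorem main80 (hn : 0 < n)
    (σ τ : Over (Spec (CommRingCat.of k))) [GrpObj σ] [GrpObj τ]
    (i : σ ⟶ sp k (GLn m k)) (j : τ ⟶ sp k (GLn m k)) [IsMonHom i] [IsMonHom j]
    (hi : IsClosedImmersion i.left) (hj : IsClosedImmersion j.left)
    (hσ : Red.IsSplitTorusWith (ZMod n) σ) (hτ : Red.IsSplitTorusWith (ZMod n) τ)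
    (h : ∃ (g : 𝟙_ (Over (Spec (CommRingCat.of K))) ⟶ Red.bc (fkK k K) (sp k (GLn m k)))
      (φ : Red.bc (fkK k K) σ ≅ Red.bc (fkK k K) τ),
      AGF.conjBy g ((Over.pullback (fkK k K)).map i) = φ.hom ≫ (Over.pullback (fkK k K)).map j) :
    ∃ (g : 𝟙_ (Over (Spec (CommRingCat.of k))) ⟶ sp k (GLn m k)) (φ : σ ≅ τ),
      AGF.conjBy g i = φ.hom ≫ j := by
  classical
  haveI : NeZero n := ⟨hn.ne'⟩
  let G := Multiplicative (ZMod n)
  obtain ⟨uσ, huσ⟩ := exists_univ σ hσ
  obtain ⟨uτ, huτ⟩ := exists_univ τ hτ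
  have hiσ : IsClosedImmersion (uσ.hom ≫ i).left := by
    rw [Over.comp_left]
    have : IsIso uσ.hom.left := inferInstanceAs (IsIso ((Over.forget _).map uσ.hom))
    infer_instance
  have hiτ : IsClosedImmersion (uτ.hom ≫ j).left := by
    rw [Over.comp_left]
    have : IsIso uτ.hom.left := inferInstanceAs (IsIso ((Over.forget _).map uτ.hom))
    infer_instance
  obtain ⟨ρσ, E, hE, hρσE, hρσ, hgE⟩ := exists_grading (G := G) (uσ.hom ≫ i) hiσ
  obtain ⟨ρτ, F, hF, hρτF, hρτ, hgF⟩ := exists_grading (G := G) (uτ.hom ≫ j) hiτ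
  obtain ⟨g, φ, heq⟩ := h
  -- the universal test point over `K`
  let B := MonoidAlgebra K G
  obtain ⟨y₀, hy₀⟩ := Psi_surjective (k := k) (K := K) (B := B) (X := σ)
    (pt (incl k K G) ≫ uσ.hom)
  have h1 := congrArg (fun t => y₀ ≫ t) heq
  simp only [AGF.conjBy, MonObj.comp_mul, GrpObj.comp_inv] at h1
  have hyu : y₀ ≫ toUnit (Red.bc (fkK k K) σ) = toUnit (sp K B) := toUnit_unique _ _
  rw [← Category.assoc y₀ (toUnit _) g, hyu] at h1
  have h2 := congrArg Psi h1
  rw [Psi_mul, Psi_mul, Psi_inv, Psi_map, ← Category.assoc y₀ φ.hom, Psi_map, hy₀] at h2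
  -- the rational point
  obtain ⟨c0, hc0⟩ := Groth.Agent.Lib.Helper68.AffQuot.exists_pt_eq
    (Psi (k := k) (K := K) (B := K) ((unitIso K).hom ≫ g))
  have hgB : Psi (toUnit (sp K B) ≫ g)
      = pt (((Algebra.ofId K B).restrictScalars k).comp c0) := by
    rw [Psi_toUnit_comp, ← hc0, ← pt_comp]
  -- the point of `τ`
  obtain ⟨θ, hθ⟩ := Groth.Agent.Lib.Helper68.AffQuot.exists_pt_eq
    (Psi (k := k) (K := K) (B := B) (y₀ ≫ φ.hom) ≫ uτ.inv)
  have hz : Psi (k := k) (K := K) (B := B) (y₀ ≫ φ.hom) = pt θ ≫ uτ.hom := by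
    rw [hθ, Category.assoc, Iso.inv_hom_id, Category.comp_id]
  rw [hgB, hz, Category.assoc, Category.assoc, ← hρσ, ← hρτ, ← pt_comp, ← pt_comp] at h2
  have h3 := matOf_of_conj_pt_eq _ _ _ h2
  rw [matOf_comp, matOf_comp, matOf_comp, hρσE, hρτF] at h3
  obtain ⟨ψ, P, Q, hPQ, hQP, hconj⟩ := core80 hE hF hgE hgF θ (matOf c0) (isUnit_det_matOf c0) h3
  -- the rational data
  have hP : IsUnit P.det := by
    have : P.det * Q.det = 1 := by rw [← Matrix.det_mul, hPQ, Matrix.det_one]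
    exact IsUnit.of_mul_eq_one _ this
  let β : MonoidAlgebra k G ≃ₐ[k] MonoidAlgebra k G := MonoidAlgebra.domCongr k k ψ.symm
  refine ⟨(unitIso k).inv ≫ pt (ptOfMat (k := k) (B := k) P hP),
    uσ.symm ≪≫ ptIso β ≪≫ uτ, ?_⟩
  rw [← cancel_epi uσ.hom]
  simp only [AGF.conjBy, MonObj.comp_mul, GrpObj.comp_inv]
  have hyu' : uσ.hom ≫ toUnit σ = toUnit (sp k (MonoidAlgebra k G)) := toUnit_unique _ _
  rw [← Category.assoc uσ.hom (toUnit _), hyu', toUnit_comp_unitIso_inv_pt, ← hρσ]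
  have hR : uσ.hom ≫ (uσ.symm ≪≫ ptIso β ≪≫ uτ).hom ≫ j
      = pt ((β : MonoidAlgebra k G →ₐ[k] MonoidAlgebra k G).comp
        (ρτ : GLn m k →ₐ[k] MonoidAlgebra k G)) := by
    simp only [Iso.trans_hom, Iso.symm_hom, Category.assoc, Iso.hom_inv_id_assoc]
    rw [← hρτ, pt_comp]
    rfl
  rw [hR]
  apply conj_pt_eq
  rw [matOf_comp, matOf_comp, matOf_ptOfMat, hρσE, hρτF]
  have e1 : (ofFam F).map ((β : MonoidAlgebra k G →ₐ[k] MonoidAlgebra k G))
      = ofFam fun a => F (ψ a) := ofFam_map_domCongr F ψ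
  rw [e1]
  have e2 : P.map (Algebra.ofId k (MonoidAlgebra k G))
      = P.map (algebraMap k (MonoidAlgebra k G)) := rfl
  rw [e2, const_mul_ofFam, ofFam_mul_const]
  congr 1
  funext a
  exact hconj a

end Main

end Groth.Agent.Lib.Helper84.MuN
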