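import Mathlib
import Groth.Agent.Lib.Helper84.MuN.BCIso
import Groth.Agent.Lib.Helper84.MuN.Main80

/-!
# Second rationality condition for dual cyclic subgroups of `GL_m` (helper84)
-/

set_option autoImplicit false
set_option linter.unusedSectionVars false
universe u
open CategoryTheory MonoidalCategory CartesianMonoidalCategory MonObj GrpObj AlgebraicGeometry Opposite
open CoactBr Limits TensorProduct

namespace Groth.Agent.Lib.Helper84.MuN

open CoordGrp Groth.Agent.Lib.Helper84.Weitz Groth.Agent.Lib.Helper84.GLnSurj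
open Groth.Agent.Lib.Helper84.AffGrpSch Groth.Agent.Lib.Helper84.Obs

section Surj

variable {k : Type u} [Field k] {G : Type} [CommGroup G] [Fintype G]
  {A : Type u} [CommRing A] [Algebra k A]

/-- an algebra map to a group algebra whose image contains generators of the group is
surjective. -/
theorem surjective_of_closure (ρ : A →ₐ[k] MonoidAlgebra k G) (S : Set G)
    (hS : ∀ g ∈ S, MonoidAlgebra.single g (1 : k) ∈ ρ.range) (hcl : Subgroup.closure S = ⊤) :
    Function.Surjective ρ := by
  classical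
  have hall : ∀ g : G, MonoidAlgebra.single g (1 : k) ∈ ρ.range := by
    intro g
    have hg : g ∈ Subgroup.closure S := hcl ▸ Subgroup.mem_top g
    induction hg using Subgroup.closure_induction with
    | mem x hx => exact hS x hx
    | one =>
      rw [← MonoidAlgebra.one_def]
      exact Subalgebra.one_mem _
    | mul x y _ _ hx hy =>
      have : MonoidAlgebra.single (x * y) (1 : k)
          = MonoidAlgebra.single x 1 * MonoidAlgebra.single y 1 := by
        rw [MonoidAlgebra.single_mul_single, _root_.mul_one]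
      rw [this]
      exact Subalgebra.mul_mem _ hx hy
    | inv x _ hx =>
      have h1 : x⁻¹ = x ^ (Fintype.card G - 1) := by
        have h2 : x ^ (Fintype.card G - 1) * x = 1 := by
          rw [← pow_succ, Nat.sub_add_cancel Fintype.card_pos, pow_card_eq_one]
        exact (eq_inv_of_mul_eq_one_left h2).symm
      have : MonoidAlgebra.single x⁻¹ (1 : k)
          = MonoidAlgebra.single x 1 ^ (Fintype.card G - 1) := by
        rw [MonoidAlgebra.single_pow, one_pow, ← h1]
      rw [this]
      exact Subalgebra.pow_mem _ hx _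
  intro x
  have hx : x ∈ ρ.range := by
    rw [← sum_single_coeff x]
    refine Subalgebra.sum_mem _ fun g _ => ?_
    have : MonoidAlgebra.single g (x.coeff g) = x.coeff g • MonoidAlgebra.single g (1 : k) := by
      rw [MonoidAlgebra.smul_single, smul_eq_mul, _root_.mul_one]
    rw [this]
    exact Subalgebra.smul_mem _ (hall g) _
  exact hx

end Surj

section Extract

variable {k K : Type u} [Field k] [Field K] [Algebra k K] {m : ℕ}
  {G : Type} [CommGroup G] [Fintype G] [DecidableEq G]

theorem conv_incl :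
    (WithConv.toConv (Algebra.TensorProduct.includeLeft :
        MonoidAlgebra K G →ₐ[K] MonoidAlgebra K G ⊗[K] MonoidAlgebra K G) *
      WithConv.toConv (Algebra.TensorProduct.includeRight :
        MonoidAlgebra K G →ₐ[K] MonoidAlgebra K G ⊗[K] MonoidAlgebra K G)).ofConv
      = Bialgebra.comulAlgHom K (MonoidAlgebra K G) := by
  apply AlgHom.ext
  intro c
  have := AlgHom.convMul_apply (WithConv.toConv (Algebra.TensorProduct.includeLeft :
        MonoidAlgebra K G →ₐ[K] MonoidAlgebra K G ⊗[K] MonoidAlgebra K G))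
      (WithConv.toConv (Algebra.TensorProduct.includeRight :
        MonoidAlgebra K G →ₐ[K] MonoidAlgebra K G ⊗[K] MonoidAlgebra K G)) c
  rw [this]
  have h2 : (Algebra.TensorProduct.lift (Algebra.TensorProduct.includeLeft :
        MonoidAlgebra K G →ₐ[K] MonoidAlgebra K G ⊗[K] MonoidAlgebra K G)
      (Algebra.TensorProduct.includeRight :
        MonoidAlgebra K G →ₐ[K] MonoidAlgebra K G ⊗[K] MonoidAlgebra K G)
      fun _ _ => .all _ _) = AlgHom.id K _ := by
    ext <;> simp
  simp only [WithConv.ofConv_toConv]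
  rw [h2]
  rfl

/-- the grading attached to a closed immersion `sp K K[G] ⟶ (GL_{m,k})_K`. -/
theorem exists_grading_bc
    (h' : sp K (MonoidAlgebra K G) ⟶ (Over.pullback (fkK k K)).obj (sp k (GLn m k)))
    [IsMonHom h'] (hcl : IsClosedImmersion h'.left) :
    ∃ (ρ' : GLn m k →ₐ[k] MonoidAlgebra K G) (E' : G → Matrix (Fin m) (Fin m) K),
      CompleteOrthogonalIdempotents E' ∧ matOf ρ' = ofFam E' ∧ pt ρ' = Psi h' ∧
      suppGrp E' = ⊤ := by
  obtain ⟨ρ', hρ'⟩ := Groth.Agent.Lib.Helper68.AffQuot.exists_pt_eq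
    (Psi (k := k) (K := K) (B := MonoidAlgebra K G) h')
  -- multiplicativity on points
  have hmult : ∀ (C : Type u) [CommRing C] [Algebra K C] [Algebra k C] [IsScalarTower k K C]
      (x y : MonoidAlgebra K G →ₐ[K] C),
      (matOf ρ').map (WithConv.toConv x * WithConv.toConv y).ofConv
        = (matOf ρ').map x * (matOf ρ').map y := by
    intro C _ _ _ _ x y
    have e0 : pt (WithConv.toConv x * WithConv.toConv y).ofConv
        = (pt x * pt y : sp K C ⟶ sp K (MonoidAlgebra K G)) :=
      pt_conv_mul (WithConv.toConv x) (WithConv.toConv y)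
    have e1 : (pt x * pt y : sp K C ⟶ sp K (MonoidAlgebra K G)) ≫ h'
        = (pt x ≫ h') * (pt y ≫ h') := MonObj.mul_comp _ _ _
    rw [← e0] at e1
    have e2 := congrArg Psi e1
    rw [Psi_mul, Psi_pt, Psi_pt, Psi_pt, ← hρ', ← pt_comp, ← pt_comp, ← pt_comp, pt_mul_pt] at e2
    have e3 := congrArg matOf (pt_injective e2)
    rw [matOf_conv, matOf_comp, matOf_comp, matOf_comp] at e3
    exact e3
  have hcomul := hmult (MonoidAlgebra K G ⊗[K] MonoidAlgebra K G)
    Algebra.TensorProduct.includeLeft Algebra.TensorProduct.includeRight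
  rw [conv_incl] at hcomul
  -- the unit
  have hcounit : (matOf ρ').map (Bialgebra.counitAlgHom K (MonoidAlgebra K G)) = 1 := by
    have e1 : (1 : sp K K ⟶ sp K (MonoidAlgebra K G)) ≫ h' = 1 := MonObj.one_comp _
    rw [one_eq_pt] at e1
    have e2 := congrArg Psi e1
    rw [Psi_pt, Psi_one, ← hρ', ← pt_comp, one_eq_pt] at e2
    have e3 := congrArg matOf (pt_injective e2)
    rw [matOf_comp, matOf_one] at e3
    rw [← e3]
    rfl
  have hcorep : IsCorep K (matOf ρ') := (isCorep_iff _).2 ⟨hcomul, hcounit⟩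
  have hE' := IsCorep.coi hcorep
  refine ⟨ρ', cm (matOf ρ'), hE', (ofFam_cm _).symm, hρ', ?_⟩
  exact suppGrp_eq_top ρ' hE' (ofFam_cm _).symm
    (span_range_eq_top_of_closedImmersion h' hcl ρ' hρ')

end Extract

section Main

variable (k : Type u) [Field k] (K : Type u) [Field K] [Algebra k K] (m n : ℕ)

theorem incl_eq {G : Type} [CommGroup G] :
    ((MonoidAlgebra.scalarTensorEquiv k K (M := G) :
        K ⊗[k] MonoidAlgebra k G →ₐ[K] MonoidAlgebra K G).restrictScalars k).comp
      (Algebra.TensorProduct.includeRight : MonoidAlgebra k G →ₐ[k] K ⊗[k] MonoidAlgebra k G)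
      = incl k K G := by
  apply AlgHom.ext
  intro p
  change MonoidAlgebra.scalarTensorEquiv k K ((1 : K) ⊗ₜ[k] p) = _
  rw [MonoidAlgebra.scalarTensorEquiv_tmul, one_smul]
  rfl

theorem main81 (hn : 0 < n)
    (σ' : Over (Spec (CommRingCat.of K))) [GrpObj σ']
    (i' : σ' ⟶ Red.bc (fkK k K) (sp k (GLn m k))) [IsMonHom i']
    (hi' : IsClosedImmersion i'.left) (hσ' : Red.IsSplitTorusWith (ZMod n) σ') :
    ∃ (σ : Over (Spec (CommRingCat.of k))) (_ : GrpObj σ) (i : σ ⟶ sp k (GLn m k))
      (_ : IsMonHom i), IsClosedImmersion i.left ∧ Red.IsSplitTorusWith (ZMod n) σ ∧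
      ∃ (g : 𝟙_ (Over (Spec (CommRingCat.of K))) ⟶ Red.bc (fkK k K) (sp k (GLn m k)))
        (φ : σ' ≅ Red.bc (fkK k K) σ),
        AGF.conjBy g i' = φ.hom ≫ (Over.pullback (fkK k K)).map i := by
  classical
  haveI : NeZero n := ⟨hn.ne'⟩
  let G := Multiplicative (ZMod n)
  obtain ⟨u', hu'⟩ := exists_univ σ' hσ'
  have hcl : IsClosedImmersion (u'.hom ≫ i').left := by
    rw [Over.comp_left]
    have : IsIso u'.hom.left := inferInstanceAs (IsIso ((Over.forget _).map u'.hom))
    infer_instance
  obtain ⟨ρ', E', hE', hρ'E', hρ', hgE'⟩ := exists_grading_bc (G := G) (u'.hom ≫ i') hcl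
  obtain ⟨c, P, Q, hPQ, hQP, hconj, hsupp⟩ := core81 hE'
  have hNF : IsCorep k (ofFam (diagFam k c)) := isCorep_ofFam (diagFam_coi c)
  let ρF : GLn m k →ₐc[k] MonoidAlgebra k G := bialgOfCorep hNF
  have hρF : matOf (ρF : GLn m k →ₐ[k] MonoidAlgebra k G) = ofFam (diagFam k c) :=
    matOf_bialgOfCorep hNF
  -- surjectivity
  have hsurj : Function.Surjective (ρF : GLn m k →ₐ[k] MonoidAlgebra k G) := by
    apply surjective_of_closure _ (Set.range c)
    · rintro g ⟨p, rfl⟩
      refine ⟨GLn.X p p, ?_⟩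
      have h1 := congrFun (congrFun hρF p) p
      rw [matOf_apply] at h1
      change (ρF : GLn m k →ₐ[k] MonoidAlgebra k G) (GLn.X p p) = _
      rw [h1]
      unfold ofFam diagFam
      simp only [Matrix.diagonal_apply_eq]
      rw [Finset.sum_eq_single (c p)]
      · rw [if_pos rfl]
      · intro b _ hb
        rw [if_neg (Ne.symm hb), MonoidAlgebra.single_zero]
      · intro h; exact absurd (Finset.mem_univ _) h
    · rw [eq_top_iff, ← hgE']
      apply Subgroup.closure_mono
      intro a ha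
      exact hsupp a ha
  have hclF : IsClosedImmersion (pt (ρF : GLn m k →ₐ[k] MonoidAlgebra k G)).left :=
    IsClosedImmersion.spec_of_surjective
      (CommRingCat.ofHom (ρF : GLn m k →ₐ[k] MonoidAlgebra k G).toRingHom) hsurj
  refine ⟨sp k (MonoidAlgebra k G), inferInstance, pt (ρF : GLn m k →ₐ[k] MonoidAlgebra k G),
    isMonHom_pt ρF, hclF, isSplitTorusWith_sp, ?_⟩
  -- the point and the isomorphism
  have hP : IsUnit P.det := by
    have : P.det * Q.det = 1 := by rw [← Matrix.det_mul, hPQ, Matrix.det_one]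
    exact IsUnit.of_mul_eq_one _ this
  let c0 : GLn m k →ₐ[k] K := ptOfMat (k := k) (B := K) P hP
  obtain ⟨g₁, hg₁⟩ := Psi_surjective (k := k) (K := K) (B := K) (X := sp k (GLn m k)) (pt c0)
  let w : sp K (MonoidAlgebra K G) ≅ (Over.pullback (fkK k K)).obj (sp k (MonoidAlgebra k G)) :=
    ptIso (MonoidAlgebra.scalarTensorEquiv k K (M := G)) ≪≫ bcSpIso (K := K) (MonoidAlgebra k G)
  have hw : Psi w.hom = pt (incl k K G) := by
    change Psi (pt _ ≫ (bcSpIso (K := K) (MonoidAlgebra k G)).hom) = _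
    rw [Psi_pt, Psi_bcSpIso_hom, ← pt_comp, incl_eq]
  refine ⟨(unitIso K).inv ≫ g₁, u'.symm ≪≫ w, ?_⟩
  rw [← cancel_epi u'.hom]
  simp only [AGF.conjBy, MonObj.comp_mul, GrpObj.comp_inv]
  have hyu : u'.hom ≫ toUnit σ' = toUnit (sp K (MonoidAlgebra K G)) := toUnit_unique _ _
  rw [← Category.assoc u'.hom (toUnit _), hyu]
  apply Psi_injective
  rw [Psi_mul, Psi_mul, Psi_inv, Psi_toUnit_comp, Iso.hom_inv_id_assoc, hg₁, ← pt_comp, ← hρ']
  have hR : u'.hom ≫ (u'.symm ≪≫ w).hom ≫
      (Over.pullback (fkK k K)).map (pt (ρF : GLn m k →ₐ[k] MonoidAlgebra k G))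
      = w.hom ≫ (Over.pullback (fkK k K)).map (pt (ρF : GLn m k →ₐ[k] MonoidAlgebra k G)) := by
    simp only [Iso.trans_hom, Iso.symm_hom, Category.assoc, Iso.hom_inv_id_assoc]
  rw [hR, Psi_map, hw, ← pt_comp]
  apply conj_pt_eq
  rw [matOf_comp, matOf_comp, matOf_ptOfMat, hρ'E', hρF, ofFam_map_incl]
  have e1 : (fun a => (diagFam k c a).map (algebraMap k K)) = diagFam K c := by
    funext a
    exact diagFam_map (algebraMap k K) c a
  rw [e1]
  have e2 : P.map ((Algebra.ofId K (MonoidAlgebra K G)).restrictScalars k)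
      = P.map (algebraMap K (MonoidAlgebra K G)) := rfl
  rw [e2, const_mul_ofFam, ofFam_mul_const]
  congr 1
  funext a
  exact hconj a

end Main

end Groth.Agent.Lib.Helper84.MuN
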